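import Cfsg.Agent.StdOne.Move
import Cfsg.Agent.StdWreath.Lift

/-!
The doubled Sylow subgroup: the configuration in `C(D) / Z(D)` gives `S × S`, and it lifts to `G` as the odd kernel is
central.
-/

set_option autoImplicit false
set_option linter.unusedSectionVars false
set_option linter.style.haveILetI false

namespace Cfsg.Lib.StdOne

universe u v

variable {G : Type u} {M : Type v} [Group G] [Group M]

/-- `g` has odd order and centralises the image of `V × V`. -/
def OddCent {S : Subgroup M} (ι : S × S →* G) (V : Subgroup M) (g : G) : Prop :=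
  Odd (orderOf g) ∧ ∀ x y : S, (x : M) ∈ V → (y : M) ∈ V → g * ι (x, y) = ι (x, y) * g

/-- The subgroup `S × S` exchanged by `t` with diagonal in `A`, with fusion by products of elements of odd order and
lifts of the second copy of `N(V)`. -/
structure Double {P : Comp G M} (T : Ctr P) (V U S : Subgroup M) where
  ι : S × S →* G
  inj : Function.Injective ι
  diag : ∀ x : S, ∃ a : P.A, (a : G) = ι (x, x) ∧ P.q a = x
  flip : ∀ x y : S, T.t * ι (x, y) * T.t = ι (y, x)
  fuse : ∀ a c a' c' : S, a * a = 1 → c * c = 1 → IsConj (a : M) a' → IsConj (c : M) c' →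
    ∃ g ∈ StdWreath.res2 G, g * ι (a, c) * g⁻¹ = ι (a', c')
  half : ∃ j : M → G,
    (∀ n ∈ Subgroup.normalizer (V : Set M), ∀ x : S, (x : M) ∈ V ∨ (x : M) ∈ U →
      j n * ι (x, 1) = ι (x, 1) * j n) ∧
    (∀ n ∈ Subgroup.normalizer (V : Set M), ∀ v v' : S, (v : M) ∈ V → n * v * n⁻¹ = v' →
      j n * ι (1, v) * (j n)⁻¹ = ι (1, v')) ∧
    (∀ n ∈ Subgroup.normalizer (V : Set M), ∀ m ∈ Subgroup.normalizer (V : Set M),
      OddCent ι V ((j (n * m))⁻¹ * (j n * j m))) ∧
    ∀ s : S, OddCent ι V ((j s)⁻¹ * ι (1, s))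

namespace Ctr

variable [Finite G] [Finite M] {P : Comp G M} (T : Ctr P)

/-- `C(D)`. -/
noncomputable abbrev CD : Subgroup G := Subgroup.centralizer (T.D : Set G)

/-- The odd central kernel. -/
noncomputable abbrev Dc : Subgroup T.CD := T.D.subgroupOf T.CD

instance Dc_normal : T.Dc.Normal := ⟨fun d hd g => by
  rw [Subgroup.mem_subgroupOf] at hd ⊢
  show (g : G) * d * (g : G)⁻¹ ∈ T.D
  rwa [← Subgroup.mem_centralizer_iff.mp g.2 d hd, mul_inv_cancel_right]⟩

/-- `C(D) / Z(D)`. -/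
noncomputable abbrev Bar : Type u := T.CD ⧸ T.Dc

theorem A_le_CD : P.A ≤ T.CD := fun _ ha =>
  Subgroup.mem_centralizer_iff.mpr fun _ hd => (P.K_comm (T.D_le_K hd) ha).symm

theorem t_mem_CD : T.t ∈ T.CD := Subgroup.mem_centralizer_iff.mpr fun _ hd => T.D_comm_t hd

theorem CD_comm {g d : G} (hg : g ∈ T.CD) (hd : d ∈ T.D) : g * d = d * g :=
  (Subgroup.mem_centralizer_iff.mp hg d hd).symm

theorem odd_D {d : G} (hd : d ∈ T.D) : Odd (orderOf d) := (T.mem_D.mp hd).2

theorem bar_eq_iff {g h : T.CD} : (QuotientGroup.mk g : T.Bar) = QuotientGroup.mk h ↔ (g : G)⁻¹ * h ∈ T.D :=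
  QuotientGroup.eq (s := T.Dc)

theorem bar_one_iff {g : T.CD} : (QuotientGroup.mk g : T.Bar) = 1 ↔ (g : G) ∈ T.D :=
  QuotientGroup.eq_one_iff (N := T.Dc) g

/-- Elements of 2-power order are determined by their image. -/
theorem eq_of_bar {g h : T.CD} {i k : ℕ} (hg : (g : G) ^ 2 ^ i = 1) (hh : (h : G) ^ 2 ^ k = 1)
    (he : (QuotientGroup.mk g : T.Bar) = QuotientGroup.mk h) : (g : G) = h := by
  have hd : ((g⁻¹ * h : T.CD) : G) ∈ T.D := T.bar_eq_iff.mp he
  set d := ((g⁻¹ * h : T.CD) : G) with hdd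
  have hh' : (h : G) = g * d := by rw [hdd, Subgroup.coe_mul, Subgroup.coe_inv, mul_inv_cancel_left]
  have hc : Commute (g : G) d := T.CD_comm g.2 hd
  have hd1 : d ^ 2 ^ (i + k) = 1 := by
    have h1 : ((g : G) * d) ^ 2 ^ (i + k) = 1 := by
      rw [← hh', pow_add, mul_comm, pow_mul, hh, one_pow]
    rwa [hc.mul_pow, show (g : G) ^ 2 ^ (i + k) = 1 by rw [pow_add, pow_mul, hg, one_pow], one_mul] at h1
  have hd2 : d = 1 := orderOf_eq_one_iff.mp (Nat.eq_one_of_dvd_coprimes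
    (Nat.Coprime.pow_right _ (Nat.coprime_two_right.mpr (T.odd_D hd))) dvd_rfl (orderOf_dvd_of_pow_eq_one hd1))
  rw [hh', hd2, mul_one]

/-- An element over one of odd order has odd order. -/
theorem odd_of_bar {g : T.CD} (h : Odd (orderOf (QuotientGroup.mk g : T.Bar))) : Odd (orderOf (g : G)) := by
  set o := orderOf (QuotientGroup.mk g : T.Bar) with ho
  have h1 : ((g ^ o : T.CD) : G) ∈ T.D := T.bar_one_iff.mp (by
    rw [QuotientGroup.mk_pow, ho, pow_orderOf_eq_one])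
  refine Odd.of_dvd_nat (h.mul (T.odd_D h1)) (orderOf_dvd_of_pow_eq_one ?_)
  rw [pow_mul, ← Subgroup.coe_pow, pow_orderOf_eq_one]

/-- The image of `A`. -/
noncomputable def eBar : M →* T.Bar :=
  P.q.liftOfRightInverse (Function.surjInv P.surj) (Function.rightInverse_surjInv P.surj)
    ⟨(QuotientGroup.mk' T.Dc).comp (Subgroup.inclusion T.A_le_CD), fun x hx => by
      rw [MonoidHom.mem_ker, MonoidHom.comp_apply, QuotientGroup.mk'_apply, T.bar_one_iff]
      exact T.center_mem_D ((P.ker x).mp hx)⟩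

theorem eBar_q (a : P.A) : T.eBar (P.q a) = QuotientGroup.mk ⟨(a : G), T.A_le_CD a.2⟩ :=
  MonoidHom.liftOfRightInverse_comp_apply P.q _ _ _ a

/-- The configuration in `C(D) / Z(D)`. -/
noncomputable def cfg : StdWreath.Cfg T.Bar M where
  e := T.eBar
  inj := (injective_iff_map_eq_one _).mpr fun m hm => by
    obtain ⟨a, rfl⟩ := P.surj m
    rw [T.eBar_q, T.bar_one_iff] at hm
    exact P.q_eq_one_of_K (x := a) (T.D_le_K hm)
  t := QuotientGroup.mk ⟨T.t, T.t_mem_CD⟩
  t_sq := by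
    rw [← QuotientGroup.mk_mul, show (⟨T.t, T.t_mem_CD⟩ : T.CD) * ⟨T.t, T.t_mem_CD⟩ = 1 from Subtype.ext T.t_sq,
      QuotientGroup.mk_one]
  t_not := fun m hm => by
    obtain ⟨a, rfl⟩ := P.surj m
    rw [T.eBar_q] at hm
    have h1 : (a : G)⁻¹ * T.t ∈ T.D := T.bar_eq_iff.mp hm
    have haK : (a : G) ∈ P.K := by
      rw [show (a : G) = T.t * ((a : G)⁻¹ * T.t)⁻¹ by group]
      exact P.K.mul_mem T.mem (P.K.inv_mem (T.D_le_K h1))
    have hat : T.t * T.t = 1 := T.t_sq
    have h2 : T.t ∈ T.D := by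
      have h3 := T.D.mul_mem (T.center_mem_D ((P.ker a).mp (P.q_eq_one_of_K haK))) h1
      rwa [mul_inv_cancel_left] at h3
    have h3 := T.odd_D h2
    rw [T.ord] at h3
    exact absurd h3 (by decide)
  t_comm := fun m => by
    obtain ⟨a, rfl⟩ := P.surj m
    rw [T.eBar_q, ← QuotientGroup.mk_mul, ← QuotientGroup.mk_mul]
    exact congrArg _ (Subtype.ext (T.t_comm a.2).symm)
  D := ⊥
  D_odd := by rw [Subgroup.card_bot]; exact odd_one
  D_comm := fun d hd m => by rw [Subgroup.mem_bot.mp hd, one_mul, mul_one]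
  D_t := fun d hd => by rw [Subgroup.mem_bot.mp hd, one_mul, mul_one]

variable {z : M} (F : TightFacts M z) {V U S : Subgroup M} (O : OneFacts V U S z)
include F O

theorem loc : StdWreath.LocExact T.cfg V U := by
  refine ⟨fun g hg hcase => ?_⟩
  obtain ⟨g, rfl⟩ := QuotientGroup.mk_surjective g
  have hgt : (g : G) * T.t = T.t * g := by
    have h1 : ((g : G) * T.t)⁻¹ * (T.t * g) ∈ T.D := T.bar_eq_iff.mp
      (show (QuotientGroup.mk (g * (⟨T.t, T.t_mem_CD⟩ : T.CD)) : T.Bar) =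
        QuotientGroup.mk ((⟨T.t, T.t_mem_CD⟩ : T.CD) * g) from hg)
    set d := ((g : G) * T.t)⁻¹ * (T.t * g) with hd
    have hdt : T.t * d * T.t = d⁻¹ := by
      rw [hd]
      simp only [mul_inv_rev, inv_inv, T.t_inv]
      calc T.t * (T.t * (g : G)⁻¹ * (T.t * g)) * T.t = T.t * T.t * ((g : G)⁻¹ * T.t * g * T.t) := by group
        _ = _ := by rw [T.t_sq, one_mul]; group
    have hdd : d * d = 1 := by
      rw [mul_assoc, T.D_comm_t h1, ← mul_assoc, T.t_sq, one_mul] at hdt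
      nth_rw 2 [hdt]; rw [mul_inv_cancel]
    have := StdWreath.eq_one_of_sq T.D_odd h1 hdd
    rw [hd, inv_mul_eq_one] at this
    exact this
  -- the action is inner
  obtain ⟨w, hw⟩ : ∃ w, P.act ⟨g, T.cent_le hgt⟩ = MulAut.conj w := by
    have key : ∀ X : Subgroup M, Cfsg.IsElementaryAbelian 2 X →
        (∀ x ∈ X, ∃ y ∈ X, (QuotientGroup.mk g : T.Bar) * T.cfg.e x * (QuotientGroup.mk g)⁻¹ = T.cfg.e y) →
        ∀ x ∈ X, P.act ⟨g, T.cent_le hgt⟩ x ∈ X := by
      intro X hX hgX x hx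
      obtain ⟨y, hy, hxy⟩ := hgX x hx
      obtain ⟨xa, hxs, rfl⟩ := P.exists_lift_sq (m := x) (by rw [← pow_two]; exact hX.2 x hx)
      obtain ⟨ya, hys, rfl⟩ := P.exists_lift_sq (m := y) (by rw [← pow_two]; exact hX.2 y hy)
      have hgN : (g : G) ∈ P.N := T.cent_le hgt
      rw [show T.cfg.e = T.eBar from rfl, T.eBar_q, T.eBar_q, ← QuotientGroup.mk_inv, ← QuotientGroup.mk_mul,
        ← QuotientGroup.mk_mul] at hxy
      have h1 := T.eq_of_bar (i := 1) (k := 1) (g := g * ⟨xa, T.A_le_CD xa.2⟩ * g⁻¹)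
        (h := ⟨ya, T.A_le_CD ya.2⟩) (by
          rw [pow_one, pow_two]
          show (g : G) * xa * (g : G)⁻¹ * ((g : G) * xa * (g : G)⁻¹) = 1
          calc (g : G) * xa * (g : G)⁻¹ * ((g : G) * xa * (g : G)⁻¹) = (g : G) * (xa * xa) * (g : G)⁻¹ := by group
            _ = 1 := by rw [hxs]; group) (by rw [pow_one, pow_two]; exact hys) hxy
      rw [P.act_apply, show (⟨(g : G) * xa * (g : G)⁻¹, P.conj_A hgN xa.2⟩ : P.A) = ya from Subtype.ext h1]
      exact hy
    rcases hcase with h | h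
    · exact O.aut_V _ (key V O.elemV h)
    · exact O.aut_U _ (key U O.elemU h)
  obtain ⟨a, -, hk⟩ := T.inner_split hgt hw
  refine ⟨P.q a, 1, (⊥ : Subgroup T.Bar).one_mem, ?_⟩
  rw [mul_one, mul_one, show T.cfg.e = T.eBar from rfl, T.eBar_q]
  rcases T.Kt_cases hk with h | h
  · exact Or.inl (T.bar_eq_iff.mpr (by
      show (g : G)⁻¹ * a ∈ T.D
      have := T.D.inv_mem h
      rwa [mul_inv_rev, inv_inv] at this))
  · refine Or.inr ?_
    rw [show T.cfg.t = QuotientGroup.mk ⟨T.t, T.t_mem_CD⟩ from rfl, ← QuotientGroup.mk_mul]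
    refine T.bar_eq_iff.mpr ?_
    show (g : G)⁻¹ * ((a : G) * T.t) ∈ T.D
    have h2 : T.t * ((a : G)⁻¹ * g) ∈ T.D := by
      rw [← Subgroup.mem_centralizer_singleton_iff.mp hk.2]; exact h
    have h3 := T.D.inv_mem h2
    rwa [mul_inv_rev, mul_inv_rev, inv_inv, T.t_inv, mul_assoc] at h3

/-- The doubled Sylow subgroup. -/
theorem exists_double (hfus : ∃ a : P.A, orderOf (a : G) = 2 ∧ ∃ h : G, h * T.t * h⁻¹ = T.t * a) :
    Nonempty (Double T V U S) := by
  classical
  have hV : StdWreath.TCtx T.cfg V :=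
    { elem := O.elemV
      card := by rw [O.cardV]; omega
      span := fun x hx hx1 y hy => by
        by_cases hy1 : y = 1
        · rw [hy1]; exact Subgroup.one_mem _
        obtain ⟨n, hn, hny⟩ := O.V_trans y hy hy1
        obtain ⟨k, hk, hkx⟩ := O.V_trans x hx hx1
        refine Subgroup.subset_closure ⟨n * k⁻¹, Subgroup.mul_mem _ hn (Subgroup.inv_mem _ hk), ?_⟩
        rw [← hny, ← hkx]; group
      cobDual := O.cobDual_V
      cobEnd := O.cobEnd_V
      wedge := O.wedge_V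
      endS := O.end_V
      quad := O.quad_V
      cent := fun _ hc hcV => (T.loc F O).cent_of_V O.centralizer_V hc hcV
      trans := fun x hx => by
        obtain ⟨xa, hxs, hxq⟩ := P.exists_lift_sq (m := x) (by rw [← pow_two]; exact O.elemV.2 x hx)
        obtain ⟨g, hgV, hgD, hgt⟩ := T.exists_trans F O hfus xa ⟨xa, rfl, hxs, hxq ▸ hx⟩
        refine ⟨QuotientGroup.mk ⟨g, Subgroup.mem_centralizer_iff.mpr fun d hd => (hgD d hd).symm⟩, fun y hy => ?_, ?_⟩
        · obtain ⟨ya, hys, rfl⟩ := P.exists_lift_sq (m := y) (by rw [← pow_two]; exact O.elemV.2 y hy)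
          rw [show T.cfg.e = T.eBar from rfl, T.eBar_q, ← QuotientGroup.mk_mul, ← QuotientGroup.mk_mul]
          exact congrArg _ (Subtype.ext (hgV ya ⟨ya, rfl, hys, hy⟩))
        · rw [show T.cfg.e = T.eBar from rfl, ← hxq, T.eBar_q,
            show T.cfg.t = QuotientGroup.mk ⟨T.t, T.t_mem_CD⟩ from rfl, ← QuotientGroup.mk_inv, ← QuotientGroup.mk_mul,
            ← QuotientGroup.mk_mul, ← QuotientGroup.mk_mul]
          exact congrArg _ (Subtype.ext hgt) }
  obtain ⟨K, hp⟩ := StdWreath.exists_prod (T.loc F O) O.toFrame hV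
  obtain ⟨W, j, hjc, hjv, hjm, hjs⟩ := K.exists_wreath_half O.toFrame (T.loc F O) hp hV (fun u hu u' hu' huu => by
    obtain ⟨k, hk⟩ := isConj_iff.mp huu
    by_cases hu1 : u = 1
    · exact ⟨1, Subgroup.one_mem _, by rw [← hk, hu1]; group⟩
    have hu1' : u' ≠ 1 := fun h => hu1 (conj_eq_one_iff.mp (hk.trans h))
    obtain ⟨n, hn, hnu⟩ := O.U_trans u hu hu1
    obtain ⟨m, hm, hmu⟩ := O.U_trans u' hu' hu1'
    exact ⟨m * n⁻¹, Subgroup.mul_mem _ hm (Subgroup.inv_mem _ hn), by rw [← hnu, ← hmu]; group⟩)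
  -- a complement to the odd kernel over the image
  let π : T.CD →* T.Bar := QuotientGroup.mk' T.Dc
  let H : Subgroup T.CD := W.ι.range.comap π
  let f : H →* W.ι.range := (π.comp H.subtype).codRestrict W.ι.range fun h => h.2
  have hfs : Function.Surjective f := by
    rintro ⟨q, hq⟩
    obtain ⟨g, rfl⟩ := QuotientGroup.mk'_surjective T.Dc q
    exact ⟨⟨g, hq⟩, rfl⟩
  have hcard : Nat.Coprime (Nat.card f.ker) f.ker.index := by
    have hodd : Odd (Nat.card f.ker) := by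
      refine T.D_odd.of_dvd_nat ?_
      let ε : f.ker →* T.D := MonoidHom.mk' (fun g => ⟨(((g : H) : T.CD) : G), by
        have := (QuotientGroup.eq_one_iff ((g : H) : T.CD)).mp (congrArg Subtype.val (MonoidHom.mem_ker.mp g.2))
        exact this⟩) fun a c => rfl
      exact Subgroup.card_dvd_of_injective ε fun a c h =>
        Subtype.ext (Subtype.ext (Subtype.ext (congrArg (fun x : T.D => (x : G)) h)))
    rw [Subgroup.index_ker, Nat.card_congr (Subgroup.equivMapOfInjective f.range W.ι.range.subtype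
      (Subgroup.subtype_injective _)).toEquiv, MonoidHom.range_eq_top.mpr hfs, ← MonoidHom.range_eq_map,
      Subgroup.range_subtype, ← Nat.card_congr (MonoidHom.ofInjective W.inj).toEquiv]
    haveI : Fact (Nat.Prime 2) := ⟨Nat.prime_two⟩
    obtain ⟨i, hi⟩ := IsPGroup.iff_card.mp O.S_two
    rw [Nat.card_prod, hi, ← pow_add]
    exact Nat.Coprime.pow_right _ (Nat.coprime_two_right.mpr hodd)
  obtain ⟨Q, hQ⟩ := Subgroup.exists_right_complement'_of_coprime hcard
  let fQ : Q →* W.ι.range := f.comp Q.subtype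
  have hfQ : Function.Bijective fQ := by
    refine ⟨(injective_iff_map_eq_one fQ).mpr fun q hq => Subtype.ext ?_, fun r => ?_⟩
    · exact (Subgroup.disjoint_def.mp hQ.disjoint) (show (q : H) ∈ f.ker from hq) q.2
    · obtain ⟨h, rfl⟩ := hfs r
      obtain ⟨⟨⟨d, hd⟩, q⟩, he, -⟩ := Subgroup.isComplement_iff_existsUnique.mp hQ h
      refine ⟨q, ?_⟩
      rw [← he]
      show f q = f (d * q)
      rw [map_mul, MonoidHom.mem_ker.mp hd, one_mul]
  let L : S × S →* T.CD := (H.subtype.comp Q.subtype).comp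
    ((MulEquiv.ofBijective fQ hfQ).symm.toMonoidHom.comp W.ι.rangeRestrict)
  have hLπ : ∀ p, (QuotientGroup.mk (L p) : T.Bar) = W.ι p := fun p => by
    have h := (MulEquiv.ofBijective fQ hfQ).apply_symm_apply (W.ι.rangeRestrict p)
    exact congrArg Subtype.val h
  let ι : S × S →* G := T.CD.subtype.comp L
  have hι : ∀ p, ι p = (L p : G) := fun p => rfl
  have hι2 : ∀ p, ∃ i : ℕ, ι p ^ 2 ^ i = 1 := fun p => by
    obtain ⟨i, hi⟩ := O.S_two p.1
    obtain ⟨k, hk⟩ := O.S_two p.2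
    refine ⟨i + k, ?_⟩
    rw [← map_pow]
    convert map_one ι
    refine Prod.ext ?_ ?_
    · show p.1 ^ 2 ^ (i + k) = 1
      rw [pow_add, pow_mul, hi, one_pow]
    · show p.2 ^ 2 ^ (i + k) = 1
      rw [pow_add, mul_comm, pow_mul, hk, one_pow]
  -- conjugation by elements of `C(D)`
  have hconj : ∀ (g : T.CD) (p q : S × S),
      (QuotientGroup.mk g : T.Bar) * W.ι p * (QuotientGroup.mk g)⁻¹ = W.ι q → (g : G) * ι p * (g : G)⁻¹ = ι q := by
    intro g p q h
    obtain ⟨i, hi⟩ := hι2 p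
    obtain ⟨k, hk⟩ := hι2 q
    exact T.eq_of_bar (i := i) (k := k) (g := g * L p * g⁻¹) (h := L q)
      (by
        show ((g : G) * ι p * (g : G)⁻¹) ^ 2 ^ i = 1
        rw [conj_pow, hi, mul_one, mul_inv_cancel]) hk
      (by rw [QuotientGroup.mk_mul, QuotientGroup.mk_mul, QuotientGroup.mk_inv, hLπ, hLπ, h])
  have hcent : ∀ (g : T.CD) (p : S × S),
      (QuotientGroup.mk g : T.Bar) * W.ι p = W.ι p * QuotientGroup.mk g → (g : G) * ι p = ι p * g := fun g p h =>
    mul_inv_eq_iff_eq_mul.mp (hconj g p p (mul_inv_eq_iff_eq_mul.mpr h))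
  have hodd : ∀ g : T.CD, W.OddCent V (QuotientGroup.mk g) → OddCent ι V (g : G) := fun g hg =>
    ⟨T.odd_of_bar hg.1, fun x y hx hy => hcent g _ (hg.2 x y hx hy)⟩
  refine ⟨⟨ι, fun p q h => W.inj (by rw [← hLπ, ← hLπ, show L p = L q from Subtype.ext h]), fun x => ?_,
    fun x y => ?_, fun a c a' c' ha hc h1 h2 => ?_, ?_⟩⟩
  · -- the diagonal
    obtain ⟨a0, ha0⟩ := P.surj (x : M)
    have hd : (a0 : G)⁻¹ * ι (x, x) ∈ T.D := by
      refine (T.bar_eq_iff (g := ⟨a0, T.A_le_CD a0.2⟩) (h := L (x, x))).mp ?_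
      rw [hLπ, W.diag, ← ha0]
      exact (T.eBar_q a0).symm
    set g := ι (x, x) with hg
    set m := orderOf ((a0 : G)⁻¹ * g) with hm
    have hgm : g ^ m = (a0 : G) ^ m := by
      conv_lhs => rw [show g = (a0 : G) * ((a0 : G)⁻¹ * g) by rw [mul_inv_cancel_left]]
      rw [(show Commute (a0 : G) ((a0 : G)⁻¹ * g) from P.K_comm (T.D_le_K hd) a0.2).mul_pow, hm,
        pow_orderOf_eq_one, mul_one]
    obtain ⟨i, hi⟩ := hι2 (x, x)
    obtain ⟨e, he⟩ := exists_pow_eq_self_of_coprime (x := g) (n := m) (Nat.Coprime.coprime_dvd_right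
      (orderOf_dvd_of_pow_eq_one hi) (Nat.Coprime.pow_right _ (Nat.coprime_two_right.mpr (T.odd_D hd))))
    have hgA : g ∈ P.A := by
      rw [← he, hgm]; exact pow_mem (pow_mem a0.2 _) _
    refine ⟨⟨g, hgA⟩, rfl, T.cfg.inj ?_⟩
    show T.eBar _ = T.cfg.e _
    rw [T.eBar_q, ← W.diag, ← hLπ]
    rfl
  · have h := hconj ⟨T.t, T.t_mem_CD⟩ (x, y) (y, x) (by
      have h2 := W.flip x y
      have h3 : T.cfg.t⁻¹ = T.cfg.t := inv_eq_of_mul_eq_one_right T.cfg.t_sq
      show T.cfg.t * W.ι (x, y) * T.cfg.t⁻¹ = W.ι (y, x)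
      rwa [h3])
    rwa [show ((⟨T.t, T.t_mem_CD⟩ : T.CD) : G) = T.t from rfl, T.t_inv] at h
  · obtain ⟨gb, hgb, hge⟩ := W.fuse a c a' c' ha hc h1 h2
    have hle : StdWreath.res2 T.Bar ≤ ((StdWreath.res2 G).comap T.CD.subtype).map π :=
      (Subgroup.closure_le _).mpr fun q hq => by
        obtain ⟨g, rfl⟩ := QuotientGroup.mk'_surjective T.Dc q
        exact ⟨g, StdWreath.odd_mem_res2 (T.odd_of_bar hq), rfl⟩
    obtain ⟨g, hg, rfl⟩ := hle hgb
    exact ⟨g, hg, hconj g _ _ hge⟩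
  · choose lift hlift using fun n => QuotientGroup.mk_surjective (s := T.Dc) (j n)
    refine ⟨fun n => (lift n : G), fun n hn x hx => ?_, fun n hn v v' hv he => ?_, fun n hn m hm => ?_, fun s => ?_⟩
    · exact hcent (lift n) _ (by rw [hlift]; exact hjc n hn x hx)
    · exact hconj (lift n) _ _ (by rw [hlift]; exact hjv n hn v v' hv he)
    · have h := hodd ((lift (n * m))⁻¹ * (lift n * lift m)) (by
        rw [QuotientGroup.mk_mul, QuotientGroup.mk_inv, QuotientGroup.mk_mul, hlift, hlift, hlift]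
        exact hjm n hn m hm)
      exact h
    · have h := hodd ((lift s)⁻¹ * L (1, s)) (by
        rw [QuotientGroup.mk_mul, QuotientGroup.mk_inv, hlift, hLπ]
        exact hjs s)
      exact h

end Ctr

end Cfsg.Lib.StdOne
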