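import Mathlib
import Cfsg.Prelude.Def_Local
import Cfsg.Agent.StdWreath.Odd

/-!
A standard subgroup `A` with odd centre, seen through the action of its normaliser on `M = A / Z(A)`.
-/

set_option autoImplicit false
set_option linter.unusedSectionVars false

open scoped commutatorElement

namespace Cfsg.Lib.StdOne

universe u v

/-- What the tight embedding argument needs of `M`: one class of involutions with perfect centraliser, and small
centralisers of automorphisms. -/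
structure TightFacts (M : Type v) [Group M] (z : M) : Prop where
  simple : IsSimpleGroup M
  order_z : orderOf z = 2
  one : ∀ a : M, orderOf a = 2 → IsConj a z
  perf : ⁅Subgroup.centralizer ({z} : Set M), Subgroup.centralizer ({z} : Set M)⁆ = Subgroup.centralizer ({z} : Set M)
  out_comm : ∀ α β : MulAut M, ∃ w : M, α * β * α⁻¹ * β⁻¹ = MulAut.conj w
  aut_cent : ∀ α : MulAut M, (∀ x, x * z = z * x → α x = x) → α = 1 ∨ α = MulAut.conj z
  no_odd : ∀ J : Subgroup M, Odd (Nat.card J) → (∀ c, c * z = z * c → ∀ j ∈ J, c * j * c⁻¹ ∈ J) → J = ⊥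
  fix_small : ∀ τ : MulAut M, τ * τ = 1 → (∀ w, τ ≠ MulAut.conj w) →
    ¬ Nat.card (Subgroup.centralizer ({z} : Set M)) ∣ 2 * Nat.card {x : M // τ x = x}
  big : ∀ J : Subgroup M, z ∈ J →
    (∀ j ∈ J, orderOf j = 2 → ∀ c, c * j = j * c → ∀ x ∈ J, c * x * c⁻¹ ∈ J) →
    J = ⊤ ∨ (∀ x ∈ J, x * z = z * x → x = 1 ∨ x = z) ∨
      ∃ H : Subgroup M, ⁅H, H⁆ = H ∧ H ≤ Subgroup.closure {c | ∃ j ∈ J, orderOf j = 2 ∧ c * j = j * c} ∧
        ∀ τ : MulAut M, τ * τ = 1 → τ ≠ 1 → ¬ J.relIndex H ∣ Nat.card {x : M // τ x = x}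
  outer_swap : ∀ τ : MulAut M, τ * τ = 1 → (∀ w, τ ≠ MulAut.conj w) →
    ∃ a x : M, orderOf a = 2 ∧ τ a = a ∧ MulAut.conj x * τ * (MulAut.conj x)⁻¹ = τ * MulAut.conj a ∧
      a ∈ Subgroup.closure {c | ∃ m n : M, τ (a * m * a⁻¹) = m ∧ τ (a * n * a⁻¹) = n ∧ c = m * n * m⁻¹ * n⁻¹}

/-- A standard subgroup with odd centre and a map onto `M` with kernel the centre. -/
structure Comp (G : Type u) (M : Type v) [Group G] [Group M] where
  A : Subgroup G
  q : A →* M
  surj : Function.Surjective q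
  ker : ∀ x : A, q x = 1 ↔ x ∈ Subgroup.center A
  odd : Odd (Nat.card (Subgroup.center A))
  std : Cfsg.IsStandardSubgroup A

namespace Comp

variable {G : Type u} {M : Type v} [Group G] [Group M] (P : Comp G M)

/-- The centraliser. -/
abbrev K : Subgroup G := Subgroup.centralizer (P.A : Set G)

/-- The normaliser. -/
abbrev N : Subgroup G := Subgroup.normalizer (P.A : Set G)

theorem N_eq : P.N = Subgroup.normalizer (P.K : Set G) := P.std.2.2.2

theorem K_le_N : P.K ≤ P.N := Subgroup.centralizer_le_normalizer _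

theorem A_le_N : P.A ≤ P.N := Subgroup.le_normalizer

theorem K_comm {k a : G} (hk : k ∈ P.K) (ha : a ∈ P.A) : a * k = k * a :=
  Subgroup.mem_centralizer_iff.mp hk a ha

theorem conj_K {n k : G} (hn : n ∈ P.N) (hk : k ∈ P.K) : n * k * n⁻¹ ∈ P.K :=
  (Subgroup.mem_normalizer_iff.mp (P.N_eq ▸ hn) k).mp hk

theorem conj_A {n a : G} (hn : n ∈ P.N) (ha : a ∈ P.A) : n * a * n⁻¹ ∈ P.A :=
  (Subgroup.mem_normalizer_iff.mp hn a).mp ha

/-- Tight embedding. -/
theorem tight [Finite G] {x g : G} (hx : x ∈ P.K) (hx2 : orderOf x = 2) (hg : g * x * g⁻¹ ∈ P.K) : g ∈ P.N := by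
  rw [P.N_eq]
  by_contra hgn
  have hmem : g * x * g⁻¹ ∈ P.K ⊓ P.K.map (MulAut.conj g).toMonoidHom := ⟨hg, x, hx, rfl⟩
  have h2 := Subgroup.orderOf_dvd_natCard _ hmem
  rw [show g * x * g⁻¹ = MulAut.conj g x from rfl, MulEquiv.orderOf_eq, hx2] at h2
  exact Nat.not_even_iff_odd.2 (P.std.2.1.2 g hgn) (even_iff_two_dvd.2 h2)

/-- The centraliser of an involution of `K` normalises `A`. -/
theorem cent_le [Finite G] {x c : G} (hx : x ∈ P.K) (hx2 : orderOf x = 2) (hc : c * x = x * c) : c ∈ P.N :=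
  P.tight hx hx2 (by rwa [hc, mul_inv_cancel_right])

/-- An involution commuting with `u ∈ gKg⁻¹` normalises `gAg⁻¹`. -/
theorem cent_le_conj [Finite G] {x c g : G} (hx : x ∈ P.K) (hx2 : orderOf x = 2)
    (hc : c * (g * x * g⁻¹) = g * x * g⁻¹ * c) : g⁻¹ * c * g ∈ P.N :=
  P.cent_le hx hx2 (by
    calc g⁻¹ * c * g * x = g⁻¹ * (c * (g * x * g⁻¹)) * g := by group
      _ = g⁻¹ * (g * x * g⁻¹ * c) * g := by rw [hc]
      _ = _ := by group)

theorem exists_act : ∃ f : P.N →* MulAut M, ∀ (n : P.N) (x : P.A),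
    f n (P.q x) = P.q ⟨(n : G) * x * (n : G)⁻¹, P.conj_A n.2 x.2⟩ := by
  classical
  choose s hs using P.surj
  have hkey : ∀ (n : P.N) (x y : P.A), P.q x = P.q y →
      P.q ⟨(n : G) * x * (n : G)⁻¹, P.conj_A n.2 x.2⟩ = P.q ⟨(n : G) * y * (n : G)⁻¹, P.conj_A n.2 y.2⟩ := by
    intro n x y hxy
    have hc : x * y⁻¹ ∈ Subgroup.center P.A := (P.ker _).mp (by rw [map_mul, map_inv, hxy, mul_inv_cancel])
    have h1 : P.q (⟨(n : G) * x * (n : G)⁻¹, P.conj_A n.2 x.2⟩ * ⟨(n : G) * y * (n : G)⁻¹, P.conj_A n.2 y.2⟩⁻¹) = 1 := by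
      refine (P.ker _).mpr (Subgroup.mem_center_iff.mpr fun w => Subtype.ext ?_)
      have hw := congrArg Subtype.val (Subgroup.mem_center_iff.mp hc
        ⟨(n : G)⁻¹ * w * n, by have := P.conj_A (inv_mem n.2) w.2; rwa [inv_inv] at this⟩)
      simp only [Subgroup.coe_mul, Subgroup.coe_inv] at hw ⊢
      calc (w : G) * ((n : G) * x * (n : G)⁻¹ * ((n : G) * y * (n : G)⁻¹)⁻¹)
          = (n : G) * ((n : G)⁻¹ * w * n * ((x : G) * (y : G)⁻¹)) * (n : G)⁻¹ := by group
        _ = (n : G) * ((x : G) * (y : G)⁻¹ * ((n : G)⁻¹ * w * n)) * (n : G)⁻¹ := by rw [hw]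
        _ = _ := by group
    rwa [map_mul, map_inv, mul_inv_eq_one] at h1
  let F : P.N → M → M := fun n m => P.q ⟨(n : G) * s m * (n : G)⁻¹, P.conj_A n.2 (s m).2⟩
  have hF : ∀ (n : P.N) (x : P.A), F n (P.q x) = P.q ⟨(n : G) * x * (n : G)⁻¹, P.conj_A n.2 x.2⟩ :=
    fun n x => hkey n _ x (hs _)
  have hmul : ∀ n m m', F n (m * m') = F n m * F n m' := by
    intro n m m'
    rw [← hs m, ← hs m', ← map_mul, hF, hF, hF, ← map_mul]
    exact congrArg P.q (Subtype.ext (by simp only [Subgroup.coe_mul]; group))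
  have hcomp : ∀ n n' m, F (n * n') m = F n (F n' m) := by
    intro n n' m
    rw [← hs m, hF n', hF n, hF]
    exact congrArg P.q (Subtype.ext (by simp only [Subgroup.coe_mul]; group))
  have hone : ∀ m, F 1 m = m := by
    intro m
    conv_rhs => rw [← hs m]
    exact congrArg P.q (Subtype.ext (by simp))
  let e : P.N → MulAut M := fun n =>
    { toFun := F n
      invFun := F n⁻¹
      left_inv := fun m => by rw [← hcomp, inv_mul_cancel, hone]
      right_inv := fun m => by rw [← hcomp, mul_inv_cancel, hone]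
      map_mul' := hmul n }
  exact ⟨MonoidHom.mk' e fun n n' => MulEquiv.ext fun m => hcomp n n' m, fun n x => hF n x⟩

/-- The action of the normaliser on `M`. -/
noncomputable def act : P.N →* MulAut M := P.exists_act.choose

theorem act_apply (n : P.N) (x : P.A) : P.act n (P.q x) = P.q ⟨(n : G) * x * (n : G)⁻¹, P.conj_A n.2 x.2⟩ :=
  P.exists_act.choose_spec n x

theorem act_A (a : P.A) : P.act ⟨a, P.A_le_N a.2⟩ = MulAut.conj (P.q a) := by
  refine MulEquiv.ext fun m => ?_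
  obtain ⟨x, rfl⟩ := P.surj m
  rw [P.act_apply, MulAut.conj_apply, ← map_inv, ← map_mul, ← map_mul]
  rfl

theorem act_K {k : G} (hk : k ∈ P.K) : P.act ⟨k, P.K_le_N hk⟩ = 1 := by
  refine MulEquiv.ext fun m => ?_
  obtain ⟨x, rfl⟩ := P.surj m
  rw [P.act_apply]
  exact congrArg P.q (Subtype.ext (show k * (x : G) * k⁻¹ = x by rw [← P.K_comm hk x.2, mul_inv_cancel_right]))

theorem perfect : ⁅P.A, P.A⁆ = P.A := by
  have h : commutator P.A = ⊤ := P.std.1.1.commutator_eq_top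
  have h2 := congrArg (Subgroup.map P.A.subtype) h
  rwa [commutator_def, Subgroup.map_commutator, ← MonoidHom.range_eq_map, Subgroup.range_subtype] at h2

/-- The kernel of the action is the centraliser. -/
theorem mem_K_of_act {n : P.N} (h : P.act n = 1) : (n : G) ∈ P.K := by
  have hc : ∀ x : P.A, ∀ w ∈ P.A, w * ((n : G) * x * (n : G)⁻¹ * (x : G)⁻¹) = (n : G) * x * (n : G)⁻¹ * (x : G)⁻¹ * w := by
    intro x w hw
    have h1 := P.act_apply n x
    rw [h, MulAut.one_apply] at h1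
    have h2 := (P.ker (⟨(n : G) * x * (n : G)⁻¹, P.conj_A n.2 x.2⟩ * x⁻¹)).mp (by
      rw [map_mul, map_inv, ← h1, mul_inv_cancel])
    exact congrArg Subtype.val (Subgroup.mem_center_iff.mp h2 ⟨w, hw⟩)
  refine Subgroup.mem_centralizer_iff.mpr fun a ha => ?_
  let H : Subgroup G :=
    { carrier := {a | a ∈ P.A ∧ a * (n : G) = (n : G) * a}
      one_mem' := ⟨P.A.one_mem, by simp⟩
      mul_mem' := fun {a c} ha hc => ⟨P.A.mul_mem ha.1 hc.1, by rw [mul_assoc, hc.2, ← mul_assoc, ha.2, mul_assoc]⟩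
      inv_mem' := fun {a} ha => ⟨P.A.inv_mem ha.1, (Commute.inv_left (show Commute a n from ha.2)).eq⟩ }
  suffices hH : P.A ≤ H from (hH ha).2
  rw [← P.perfect, Subgroup.commutator_le]
  intro a ha c hc'
  refine ⟨by rw [← P.perfect]; exact Subgroup.commutator_mem_commutator ha hc', ?_⟩
  set d := (n : G) * a * (n : G)⁻¹ * a⁻¹ with hd
  set f := (n : G) * c * (n : G)⁻¹ * c⁻¹ with hf
  have hda := hc ⟨a, ha⟩
  have hfc := hc ⟨c, hc'⟩
  have hdA : d ∈ P.A := P.A.mul_mem (P.conj_A n.2 ha) (P.A.inv_mem ha)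
  have hna : (n : G) * a * (n : G)⁻¹ = d * a := by rw [hd]; group
  have hnc : (n : G) * c * (n : G)⁻¹ = f * c := by rw [hf]; group
  replace hfc : ∀ w ∈ P.A, w * f = f * w := hfc
  replace hda : ∀ w ∈ P.A, w * d = d * w := hda
  clear_value d f
  have key : (n : G) * ⁅a, c⁆ * (n : G)⁻¹ = ⁅a, c⁆ := by
    rw [commutatorElement_def]
    calc (n : G) * (a * c * a⁻¹ * c⁻¹) * (n : G)⁻¹
        = ((n : G) * a * (n : G)⁻¹) * ((n : G) * c * (n : G)⁻¹) * ((n : G) * a * (n : G)⁻¹)⁻¹ *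
            ((n : G) * c * (n : G)⁻¹)⁻¹ := by group
      _ = (d * a) * (f * c) * (d * a)⁻¹ * (f * c)⁻¹ := by rw [hna, hnc]
      _ = d * (a * f) * c * a⁻¹ * d⁻¹ * c⁻¹ * f⁻¹ := by group
      _ = d * f * (a * c * a⁻¹ * d⁻¹) * c⁻¹ * f⁻¹ := by rw [hfc a ha]; group
      _ = d * f * (d⁻¹ * (a * c * a⁻¹)) * c⁻¹ * f⁻¹ := by
          rw [(Commute.inv_right (show Commute (a * c * a⁻¹) d from
            hda _ (P.A.mul_mem (P.A.mul_mem ha hc') (P.A.inv_mem ha)))).eq]
      _ = f * (a * c * a⁻¹ * c⁻¹) * f⁻¹ := by rw [hfc d hdA]; group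
      _ = _ := by
          rw [← hfc _ (P.A.mul_mem (P.A.mul_mem (P.A.mul_mem ha hc') (P.A.inv_mem ha)) (P.A.inv_mem hc'))]; group
  calc ⁅a, c⁆ * (n : G) = (n : G) * ⁅a, c⁆ * (n : G)⁻¹ * n := by rw [key]
    _ = _ := by group

theorem center_le_K {x : P.A} (hx : x ∈ Subgroup.center P.A) : (x : G) ∈ P.K :=
  Subgroup.mem_centralizer_iff.mpr fun a ha => congrArg Subtype.val (Subgroup.mem_center_iff.mp hx ⟨a, ha⟩)

/-- `A` meets `K` in its centre, of odd order. -/
theorem q_eq_one_of_K {x : P.A} (hx : (x : G) ∈ P.K) : P.q x = 1 :=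
  (P.ker x).mpr (Subgroup.mem_center_iff.mpr fun w => Subtype.ext (P.K_comm hx w.2))

/-- An element of odd order in the centre. -/
theorem center_pow {x : P.A} (hx : x ∈ Subgroup.center P.A) : (x : G) ^ Nat.card (Subgroup.center P.A) = 1 := by
  have h : (⟨x, hx⟩ : Subgroup.center P.A) ^ Nat.card (Subgroup.center P.A) = 1 := pow_card_eq_one'
  exact congrArg (fun w : Subgroup.center P.A => ((w : P.A) : G)) h

theorem orderOf_q [Finite G] {a : P.A} (ha : orderOf (a : G) = 2) : orderOf (P.q a) = 2 := by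
  have h2 : (a : G) * a = 1 := by rw [← pow_two, ← ha, pow_orderOf_eq_one]
  refine orderOf_eq_prime (by rw [← map_pow, ← map_one P.q]; exact congrArg P.q (Subtype.ext (by
    rw [Subgroup.coe_pow, pow_two, h2, Subgroup.coe_one]))) fun h => ?_
  obtain ⟨j, hj⟩ := P.odd
  have h1 := P.center_pow ((P.ker a).mp h)
  rw [hj, pow_succ, pow_mul, pow_two, h2, one_pow, one_mul] at h1
  rw [h1, orderOf_one] at ha
  exact absurd ha (by norm_num)

/-- An involution of `M` lifts to one of `A`. -/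
theorem exists_lift_invol {m : M} (hm : orderOf m = 2) : ∃ a : P.A, orderOf (a : G) = 2 ∧ P.q a = m := by
  obtain ⟨x, rfl⟩ := P.surj m
  set k := Nat.card (Subgroup.center P.A)
  have h2 : P.q x ^ 2 = 1 := by rw [← hm, pow_orderOf_eq_one]
  have hq : P.q (x ^ k) = P.q x := by
    obtain ⟨j, hj⟩ := P.odd
    rw [map_pow, show k = 2 * j + 1 from hj, pow_succ, pow_mul, h2, one_pow, one_mul]
  refine ⟨x ^ k, orderOf_eq_prime ?_ ?_, hq⟩
  · have := P.center_pow ((P.ker (x ^ 2)).mp (by rw [map_pow, h2]))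
    rw [Subgroup.coe_pow] at this ⊢
    rw [← pow_mul, mul_comm, pow_mul, this]
  · intro h
    rw [show x ^ k = 1 from Subtype.ext h, map_one] at hq
    rw [← hq, orderOf_one] at hm
    exact absurd hm (by norm_num)

/-- Centralisers of involutions lift. -/
theorem cent_lift [Finite G] {a x : P.A} (ha : orderOf (a : G) = 2) (h : P.q x * P.q a = P.q a * P.q x) :
    (x : G) * a = a * x := by
  have h2 : (a : G) * a = 1 := by rw [← pow_two, ← ha, pow_orderOf_eq_one]
  have hc : x * a * x⁻¹ * a⁻¹ ∈ Subgroup.center P.A := (P.ker _).mp (by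
    rw [map_mul, map_mul, map_mul, map_inv, map_inv, h]; group)
  set c := x * a * x⁻¹ * a⁻¹ with hcdef
  have hxa : (x : G) * a * (x : G)⁻¹ = (c : G) * a := by rw [hcdef]; simp
  have hcc : (c : G) * a = a * c := (congrArg Subtype.val (Subgroup.mem_center_iff.mp hc a)).symm
  have hsq : (c : G) * c = 1 := by
    calc (c : G) * c = (c : G) * c * ((a : G) * a) := by rw [h2, mul_one]
      _ = (c : G) * (c * a) * a := by group
      _ = (c : G) * (a * c) * a := by rw [hcc]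
      _ = ((c : G) * a) * ((c : G) * a) := by group
      _ = (x : G) * ((a : G) * a) * (x : G)⁻¹ := by rw [← hxa]; group
      _ = 1 := by rw [h2]; group
  obtain ⟨j, hj⟩ := P.odd
  have h1 := P.center_pow hc
  rw [hj, pow_succ, pow_mul, pow_two, hsq, one_pow, one_mul] at h1
  rw [h1, one_mul, mul_inv_eq_iff_eq_mul] at hxa
  exact hxa

end Comp

end Cfsg.Lib.StdOne
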