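import Cfsg.Agent.StdOne.Setup
import Cfsg.Agent.StdWreath.Defs

/-!
Facts about `M` for one class of involutions, lifts to `A`, and the centraliser of the fused involution `t`.
-/

set_option autoImplicit false
set_option linter.unusedSectionVars false
set_option linter.style.haveILetI false

open scoped commutatorElement

namespace Cfsg.Lib.StdOne

universe u v

/-- The local facts used when `M` has one class of involutions. -/
structure OneFacts {M : Type v} [Group M] (V U S : Subgroup M) (z : M) : Prop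
    extends StdWreath.Frame V U S z where
  cardU : Nat.card U = 16
  aut_V : ∀ α : MulAut M, (∀ x ∈ V, α x ∈ V) → ∃ w, α = MulAut.conj w
  aut_U : ∀ α : MulAut M, (∀ x ∈ U, α x ∈ U) → ∃ w, α = MulAut.conj w
  U_trans : ∀ x ∈ U, x ≠ 1 → ∃ n ∈ Subgroup.normalizer (U : Set M), n * z * n⁻¹ = x
  NV_big : ¬ 16 * V.relIndex (Subgroup.normalizer (V : Set M)) ∣ 20160
  moves_z : ∀ B : Subgroup M, Cfsg.IsElementaryAbelian 2 B → Nat.card B = 16 → z ∈ B →
    S ≤ Subgroup.normalizer (B : Set M) → ∃ n ∈ Subgroup.normalizer (B : Set M), n * z * n⁻¹ ≠ z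

/-- A perfect subgroup mapping to a solvable quotient lies in the kernel. -/
theorem perfect_le {G : Type u} [Group G] {A H P0 : Subgroup G} (hnorm : H ≤ Subgroup.normalizer (A : Set G))
    (hH : Group.IsSolvable H) (hP : P0 ≤ A ⊔ H) (hperf : ⁅P0, P0⁆ = P0) : P0 ≤ A := by
  set J := A ⊔ H
  have hAn : (A.subgroupOf J).Normal := by
    refine ⟨fun a ha j => ?_⟩
    have hJ : J ≤ Subgroup.normalizer (A : Set G) := sup_le Subgroup.le_normalizer hnorm
    exact (Subgroup.mem_normalizer_iff.mp (hJ j.2) a).mp ha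
  haveI := hAn
  let π : J →* J ⧸ A.subgroupOf J := QuotientGroup.mk' _
  have hsurj : Function.Surjective (π.comp (Subgroup.inclusion (le_sup_right : H ≤ J))) := by
    intro x
    obtain ⟨j, rfl⟩ := QuotientGroup.mk'_surjective (A.subgroupOf J) x
    have hj : (j : G) ∈ ((A ⊔ H : Subgroup G) : Set G) := j.2
    rw [Subgroup.coe_mul_of_right_le_normalizer_left A H hnorm] at hj
    obtain ⟨a, ha, w, hw, he⟩ := hj
    refine ⟨⟨w, hw⟩, (QuotientGroup.eq_iff_div_mem).mpr ?_⟩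
    show ((Subgroup.inclusion le_sup_right ⟨w, hw⟩ / j : J) : G) ∈ A
    rw [Subgroup.coe_div, ← he, div_eq_mul_inv, mul_inv_rev, Subgroup.coe_inclusion, ← mul_assoc, mul_inv_cancel,
      one_mul]
    exact A.inv_mem ha
  haveI : Group.IsSolvable (J ⧸ A.subgroupOf J) := Group.isSolvable_of_surjective hsurj
  set Q := (P0.subgroupOf J).map π
  have hQ : ⁅Q, Q⁆ = Q := by
    rw [← Subgroup.map_commutator]
    congr 1
    apply Subgroup.map_injective J.subtype_injective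
    rw [Subgroup.map_commutator, Subgroup.map_subgroupOf_eq_of_le hP, hperf]
  have hbot : Q = ⊥ := by
    obtain ⟨n, hn⟩ := Group.IsSolvable.solvable (G := J ⧸ A.subgroupOf J)
    have : ∀ m, Q ≤ derivedSeries (J ⧸ A.subgroupOf J) m := by
      intro m
      induction m with
      | zero => exact le_top
      | succ m ih => rw [← hQ]; exact Subgroup.commutator_mono ih ih
    exact le_bot_iff.mp (hn ▸ this n)
  intro p hp
  have h1 : π ⟨p, hP hp⟩ ∈ Q := ⟨⟨p, hP hp⟩, hp, rfl⟩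
  rw [hbot, Subgroup.mem_bot, QuotientGroup.mk'_apply, QuotientGroup.eq_one_iff] at h1
  exact h1

namespace Comp

variable {G : Type u} {M : Type v} [Group G] [Group M] [Finite G] [Finite M] (P : Comp G M) {z : M}

theorem q_invol_eq {x y : P.A} (hx : (x : G) * x = 1) (hy : (y : G) * y = 1) (h : P.q x = P.q y) : x = y := by
  have key : ∀ w : P.A, (w : G) * w = 1 → P.q w = 1 → w = 1 := by
    intro w hw hq
    obtain ⟨j, hj⟩ := P.odd
    have h1 := P.center_pow ((P.ker w).mp hq)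
    rw [hj, pow_succ, pow_mul, pow_two, hw, one_pow, one_mul] at h1
    exact Subtype.ext h1
  by_cases h1 : P.q x = 1
  · rw [key x hx h1, key y hy (h ▸ h1)]
  have ho : ∀ w : P.A, (w : G) * w = 1 → P.q w ≠ 1 → orderOf (w : G) = 2 := fun w hw hq =>
    orderOf_eq_prime (by rw [pow_two, hw]) fun h => hq (by rw [show w = 1 from Subtype.ext h, map_one])
  exact P.eq_of_q (ho x hx h1) (ho y hy (h ▸ h1)) h

/-- Involutions over commuting ones commute. -/
theorem q_invol_comm {x y : P.A} (hx : (x : G) * x = 1) (hy : (y : G) * y = 1)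
    (h : P.q x * P.q y = P.q y * P.q x) : (x : G) * y = y * x := by
  by_cases hy1 : (y : G) = 1
  · rw [hy1, mul_one, one_mul]
  exact P.cent_lift (orderOf_eq_prime (by rw [pow_two, hy]) hy1) h

theorem exists_lift_sq {m : M} (hm : m * m = 1) : ∃ x : P.A, (x : G) * x = 1 ∧ P.q x = m := by
  by_cases h : m = 1
  · exact ⟨1, by simp, by rw [map_one, h]⟩
  obtain ⟨a, ha, haq⟩ := P.exists_lift_invol (orderOf_eq_prime (by rw [pow_two, hm]) h)
  exact ⟨a, sq_one ha, haq⟩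

/-- The involutions of `A` over an elementary abelian subgroup of `M`, with `1`. -/
def lift (B : Subgroup M) (hB : Cfsg.IsElementaryAbelian 2 B) : Subgroup G where
  carrier := {g | ∃ x : P.A, (x : G) = g ∧ (x : G) * x = 1 ∧ P.q x ∈ B}
  one_mem' := ⟨1, rfl, by simp, by rw [map_one]; exact B.one_mem⟩
  mul_mem' := by
    rintro _ _ ⟨x, rfl, hx, hxB⟩ ⟨y, rfl, hy, hyB⟩
    refine ⟨x * y, rfl, ?_, by rw [map_mul]; exact B.mul_mem hxB hyB⟩
    have hc := P.q_invol_comm hx hy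
      (congrArg Subtype.val (hB.1.is_comm.comm (⟨_, hxB⟩ : B) ⟨_, hyB⟩))
    rw [Subgroup.coe_mul]
    calc (x : G) * y * (x * y) = x * (y * x) * y := by group
      _ = (x : G) * x * (y * y) := by rw [← hc]; group
      _ = 1 := by rw [hx, hy, one_mul]
  inv_mem' := by
    rintro _ ⟨x, rfl, hx, hxB⟩
    exact ⟨x⁻¹, rfl, by rw [Subgroup.coe_inv, ← mul_inv_rev, hx, inv_one], by rw [map_inv]; exact B.inv_mem hxB⟩

variable {B : Subgroup M} (hB : Cfsg.IsElementaryAbelian 2 B)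

theorem mem_lift {g : G} : g ∈ P.lift B hB ↔ ∃ x : P.A, (x : G) = g ∧ (x : G) * x = 1 ∧ P.q x ∈ B := Iff.rfl

theorem lift_le : P.lift B hB ≤ P.A := by rintro _ ⟨x, rfl, -, -⟩; exact x.2

theorem lift_sq {g : G} (hg : g ∈ P.lift B hB) : g * g = 1 := by obtain ⟨x, rfl, hx, -⟩ := hg; exact hx

theorem lift_elem : Cfsg.IsElementaryAbelian 2 (P.lift B hB) := by
  refine ⟨⟨⟨fun a c => Subtype.ext ?_⟩⟩, fun g hg => by rw [pow_two]; exact P.lift_sq hB hg⟩
  obtain ⟨x, hxa, hx, hxB⟩ := a.2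
  obtain ⟨y, hyc, hy, hyB⟩ := c.2
  show (a : G) * c = c * a
  rw [← hxa, ← hyc]
  exact P.q_invol_comm hx hy (congrArg Subtype.val (hB.1.is_comm.comm (⟨_, hxB⟩ : B) ⟨_, hyB⟩))

theorem lift_card : Nat.card (P.lift B hB) = Nat.card B := by
  refine Nat.card_congr (Equiv.ofBijective
    (fun g : P.lift B hB => (⟨P.q ⟨g, P.lift_le hB g.2⟩, by
      obtain ⟨x, hx, -, hxB⟩ := g.2
      rwa [show (⟨g, P.lift_le hB g.2⟩ : P.A) = x from Subtype.ext hx.symm]⟩ : B)) ⟨fun a c h => ?_, fun m => ?_⟩)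
  · exact Subtype.ext (congrArg (fun w : P.A => (w : G)) (P.q_invol_eq (x := ⟨a, P.lift_le hB a.2⟩) (y := ⟨c, P.lift_le hB c.2⟩)
      (P.lift_sq hB a.2) (P.lift_sq hB c.2) (congrArg Subtype.val h)))
  · obtain ⟨x, hx, hxm⟩ := P.exists_lift_sq (m := (m : M)) (by rw [← pow_two]; exact hB.2 m m.2)
    exact ⟨⟨x, x, rfl, hx, hxm ▸ m.2⟩, Subtype.ext hxm⟩

/-- Elements of `A` over the normaliser normalise the lift. -/
theorem conj_lift {l : P.A} (hl : P.q l ∈ Subgroup.normalizer (B : Set M)) {g : G} (hg : g ∈ P.lift B hB) :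
    (l : G) * g * (l : G)⁻¹ ∈ P.lift B hB := by
  obtain ⟨x, rfl, hx, hxB⟩ := hg
  refine ⟨l * x * l⁻¹, rfl, ?_, by rw [map_mul, map_mul, map_inv]; exact (Subgroup.mem_normalizer_iff.mp hl _).mp hxB⟩
  simp only [Subgroup.coe_mul, Subgroup.coe_inv]
  calc (l : G) * x * (l : G)⁻¹ * (l * x * (l : G)⁻¹) = (l : G) * (x * x) * (l : G)⁻¹ := by group
    _ = 1 := by rw [hx]; group

/-- The preimage in `A`. -/
abbrev pre (Hm : Subgroup M) : Subgroup P.A := Hm.comap P.q

/-- The perfect lift of a perfect subgroup. -/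
def plift (Hm : Subgroup M) : Subgroup G := ⁅P.pre Hm, P.pre Hm⁆.map P.A.subtype

theorem plift_le (Hm : Subgroup M) : P.plift Hm ≤ P.A := Subgroup.map_subtype_le _

variable {Hm : Subgroup M} (hH : ⁅Hm, Hm⁆ = Hm)
include hH

theorem plift_q {m : M} (hm : m ∈ Hm) : ∃ x : P.A, (x : G) ∈ P.plift Hm ∧ P.q x = m := by
  rw [← hH, ← Subgroup.map_comap_eq_self_of_surjective P.surj Hm, ← Subgroup.map_commutator] at hm
  obtain ⟨x, hx, rfl⟩ := hm
  exact ⟨x, ⟨x, hx, rfl⟩, rfl⟩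

theorem plift_perfect : ⁅P.plift Hm, P.plift Hm⁆ = P.plift Hm := by
  rw [plift, ← Subgroup.map_commutator]
  congr 1
  refine le_antisymm (Subgroup.commutator_le_self _) (Subgroup.commutator_le.mpr fun a ha c hc => ?_)
  have hdec : ∀ w : P.A, w ∈ P.pre Hm → ∃ l ∈ ⁅P.pre Hm, P.pre Hm⁆, ∃ e ∈ Subgroup.center P.A, w = l * e := by
    intro w hw
    have hm : P.q w ∈ ⁅(P.pre Hm).map P.q, (P.pre Hm).map P.q⁆ := by
      rw [Subgroup.map_comap_eq_self_of_surjective P.surj Hm, hH]; exact hw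
    rw [← Subgroup.map_commutator] at hm
    obtain ⟨l, hl, hlw⟩ := hm
    exact ⟨l, hl, l⁻¹ * w, (P.ker _).mp (by rw [map_mul, map_inv, hlw, inv_mul_cancel]), (mul_inv_cancel_left l w).symm⟩
  obtain ⟨l, hl, e, he, rfl⟩ := hdec a ha
  obtain ⟨l', hl', e', he', rfl⟩ := hdec c hc
  have he1 := Subgroup.mem_center_iff.mp he
  have he2 := Subgroup.mem_center_iff.mp he'
  have : ⁅l * e, l' * e'⁆ = ⁅l, l'⁆ := by
    rw [commutatorElement_def, commutatorElement_def]
    calc l * e * (l' * e') * (l * e)⁻¹ * (l' * e')⁻¹ = l * (e * (l' * e')) * e⁻¹ * l⁻¹ * e'⁻¹ * l'⁻¹ := by group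
      _ = l * ((l' * e') * e) * e⁻¹ * l⁻¹ * e'⁻¹ * l'⁻¹ := by rw [he1]
      _ = l * l' * (e' * l⁻¹) * e'⁻¹ * l'⁻¹ := by group
      _ = l * l' * (l⁻¹ * e') * e'⁻¹ * l'⁻¹ := by rw [he2]
      _ = _ := by group
  rw [this]
  exact Subgroup.commutator_mem_commutator hl hl'

/-- The centraliser in `A` of an involution and its perfect lift. -/
theorem invol_mem_plift {x : P.A} (hx : (x : G) * x = 1) (hq : P.q x ∈ Hm) : (x : G) ∈ P.plift Hm := by
  obtain ⟨l, hl, hlq⟩ := P.plift_q hH hq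
  have hc : x⁻¹ * l ∈ Subgroup.center P.A := (P.ker _).mp (by rw [map_mul, map_inv, hlq, inv_mul_cancel])
  set m := Nat.card (Subgroup.center P.A) with hm
  obtain ⟨j, hj⟩ := P.odd
  have h1 : (x : G) ^ m = x := by rw [hm, hj, pow_succ, pow_mul, pow_two, hx, one_pow, one_mul]
  have h2 : (l : G) ^ m = x := by
    have hle : (l : G) = (x : G) * ((x⁻¹ * l : P.A) : G) := by simp
    rw [hle, (show Commute (x : G) ((x⁻¹ * l : P.A) : G) from P.K_comm (P.center_le_K hc) x.2).mul_pow, hm,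
      P.center_pow hc, mul_one, ← hm, h1]
  rw [← h2]
  exact pow_mem hl m

end Comp

/-- The involution `t` of `C(A)`, with Sylow subgroup of order 2 and fused to `t a`. -/
structure Ctr {G : Type u} {M : Type v} [Group G] [Group M] (P : Comp G M) where
  t : G
  mem : t ∈ P.K
  ord : orderOf t = 2
  rank : ∀ R : Subgroup G, R ≤ P.K → IsPGroup 2 R → Nat.card R ≤ 2

namespace Ctr

variable {G : Type u} {M : Type v} [Group G] [Group M] [Finite G] [Finite M] {P : Comp G M} (T : Ctr P)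

theorem t_sq : T.t * T.t = 1 := Comp.sq_one T.ord

theorem t_inv : T.t⁻¹ = T.t := inv_eq_of_mul_eq_one_right T.t_sq

theorem t_comm {a : G} (ha : a ∈ P.A) : a * T.t = T.t * a := P.K_comm T.mem ha

theorem t_not_A : T.t ∉ P.A := fun h => by
  have := P.orderOf_q (a := ⟨_, h⟩) T.ord
  rw [P.q_eq_one_of_K (x := ⟨_, h⟩) T.mem, orderOf_one] at this
  exact absurd this (by norm_num)

theorem cent_le {g : G} (hg : g * T.t = T.t * g) : g ∈ P.N := P.cent_le T.mem T.ord hg

/-- `C_K(t)`. -/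
abbrev Kt : Subgroup G := P.K ⊓ Subgroup.centralizer ({T.t} : Set G)

/-- A homomorphism of `C_K(t)` to `⟨t⟩` with odd kernel. -/
theorem exists_D : ∃ D : Subgroup G, Odd (Nat.card D) ∧
    (∀ g, g ∈ D ↔ g ∈ T.Kt ∧ Odd (orderOf g)) ∧ ∀ g ∈ T.Kt, g ∈ D ∨ g * T.t ∈ D := by
  haveI : Fact (Nat.Prime 2) := ⟨Nat.prime_two⟩
  set Z := T.Kt
  have htZ : T.t ∈ Z := ⟨T.mem, Subgroup.mem_centralizer_singleton_iff.mpr rfl⟩
  let R : Sylow 2 Z := default
  have hR : Nat.card R ≤ 2 := by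
    rw [← Subgroup.card_map_of_injective Z.subtype_injective]
    exact T.rank _ ((Subgroup.map_subtype_le _).trans inf_le_left) (R.isPGroup'.map _)
  have heven : 2 ∣ Nat.card Z := T.ord ▸ Subgroup.orderOf_dvd_natCard _ htZ
  have hR2 : Nat.card R = 2 := by
    have h1 : 2 ∣ Nat.card R := Sylow.dvd_card_of_dvd_card _ heven
    have := Nat.le_of_dvd Nat.card_pos h1
    omega
  haveI : IsCyclic (R : Subgroup Z) := isCyclic_of_prime_card hR2
  have hP := IsCyclic.normalizer_le_centralizer ((Nat.minFac_eq_two_iff _).mpr heven) ‹IsCyclic (R : Subgroup Z)›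
  set τ := MonoidHom.transferSylow R hP
  have hodd : Odd (Nat.card τ.ker) := by
    rw [Nat.odd_iff]
    have h : ¬2 ∣ Nat.card τ.ker := MonoidHom.not_dvd_card_ker_transferSylow R hP
    omega
  have hker : ∀ x : Z, x ∈ τ.ker ↔ Odd (orderOf (x : G)) := by
    intro x
    rw [Subgroup.orderOf_coe]
    constructor
    · intro hx
      have h3 : orderOf (⟨x, hx⟩ : τ.ker) ∣ Nat.card τ.ker := orderOf_dvd_natCard _
      rw [Subgroup.orderOf_mk] at h3
      exact hodd.of_dvd_nat h3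
    · intro hx
      have h1 : orderOf (τ x) ∣ 2 := by
        have := orderOf_dvd_natCard (τ x)
        rwa [hR2] at this
      exact MonoidHom.mem_ker.mpr (orderOf_eq_one_iff.mp
        (Nat.eq_one_of_dvd_coprimes (Nat.coprime_two_right.mpr hx) (orderOf_map_dvd τ x) h1))
  refine ⟨τ.ker.map Z.subtype, ?_, fun g => ⟨?_, fun h => ⟨⟨g, h.1⟩, (hker _).mpr h.2, rfl⟩⟩, fun g hg => ?_⟩
  · rwa [Subgroup.card_map_of_injective Z.subtype_injective]
  · rintro ⟨x, hx, rfl⟩
    exact ⟨x.2, (hker x).mp hx⟩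
  · by_cases h : τ ⟨g, hg⟩ = 1
    · exact Or.inl ⟨⟨g, hg⟩, h, rfl⟩
    refine Or.inr ⟨⟨g, hg⟩ * ⟨T.t, htZ⟩, ?_, rfl⟩
    have ht1 : τ ⟨T.t, htZ⟩ ≠ 1 := fun h2 => by
      have h3 := (hker ⟨T.t, htZ⟩).mp h2
      rw [show ((⟨T.t, htZ⟩ : Z) : G) = T.t from rfl, T.ord] at h3
      exact absurd h3 (by decide)
    obtain ⟨a, b, hab, huniv⟩ := Nat.card_eq_two_iff.mp hR2
    rw [SetLike.mem_coe, MonoidHom.mem_ker, map_mul]
    have hcases : ∀ r : (R : Subgroup Z), r = a ∨ r = b := fun r => by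
      have := huniv ▸ Set.mem_univ r
      simpa using this
    have hsq : τ ⟨T.t, htZ⟩ * τ ⟨T.t, htZ⟩ = 1 := by
      rw [← map_mul, show (⟨T.t, htZ⟩ : Z) * ⟨T.t, htZ⟩ = 1 from Subtype.ext T.t_sq, map_one]
    have heq : τ ⟨g, hg⟩ = τ ⟨T.t, htZ⟩ := by
      rcases hcases 1 with h1 | h1 <;> rcases hcases (τ ⟨g, hg⟩) with h2 | h2 <;>
        rcases hcases (τ ⟨T.t, htZ⟩) with h3 | h3 <;>
        first
        | exact h2.trans h3.symm
        | exact absurd (h2.trans h1.symm) h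
        | exact absurd (h3.trans h1.symm) ht1
    rw [heq, hsq]

/-- `O(C(A) ∩ C(t))`. -/
noncomputable def D : Subgroup G := T.exists_D.choose

theorem D_odd : Odd (Nat.card T.D) := T.exists_D.choose_spec.1

theorem mem_D {g : G} : g ∈ T.D ↔ g ∈ T.Kt ∧ Odd (orderOf g) := T.exists_D.choose_spec.2.1 g

theorem Kt_cases {g : G} (hg : g ∈ T.Kt) : g ∈ T.D ∨ g * T.t ∈ T.D := T.exists_D.choose_spec.2.2 g hg

theorem D_le_K {d : G} (hd : d ∈ T.D) : d ∈ P.K := (T.mem_D.mp hd).1.1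

theorem D_comm_t {d : G} (hd : d ∈ T.D) : d * T.t = T.t * d :=
  Subgroup.mem_centralizer_singleton_iff.mp (T.mem_D.mp hd).1.2

theorem center_mem_D {x : P.A} (hx : x ∈ Subgroup.center P.A) : (x : G) ∈ T.D :=
  T.mem_D.mpr ⟨⟨P.center_le_K hx, Subgroup.mem_centralizer_singleton_iff.mpr (T.t_comm x.2)⟩,
    P.odd.of_dvd_nat (by
      rw [Subgroup.orderOf_coe, show orderOf x = orderOf (⟨x, hx⟩ : Subgroup.center P.A) from (Subgroup.orderOf_mk x hx).symm]
      exact orderOf_dvd_natCard _)⟩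

/-- An element of `C(t)` acting as an inner automorphism. -/
theorem inner_split {g : G} (hg : g * T.t = T.t * g) {w : M} (h : P.act ⟨g, T.cent_le hg⟩ = MulAut.conj w) :
    ∃ a : P.A, P.q a = w ∧ (a : G)⁻¹ * g ∈ T.Kt := by
  obtain ⟨a, rfl⟩ := P.surj w
  refine ⟨a, rfl, P.diff_mem_K _ h, Subgroup.mem_centralizer_singleton_iff.mpr ?_⟩
  rw [mul_assoc, hg, ← mul_assoc, (Commute.inv_left (show Commute (a : G) T.t from T.t_comm a.2)).eq, mul_assoc]

/-- Perfect subgroups of `C(t)` lie in `A`. -/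
theorem perfect_le_A {z : M} (F : TightFacts M z) {P0 : Subgroup G} (hperf : ⁅P0, P0⁆ = P0)
    (hP : ∀ p ∈ P0, p * T.t = T.t * p) : P0 ≤ P.A := by
  haveI : Group.IsSolvable T.Kt := by
    haveI hD := Cfsg.Agent.S0205.result T.D_odd
    haveI : Group.IsSolvable (T.D.subgroupOf T.Kt) :=
      Group.isSolvable_of_isSolvable_injective (f := (Subgroup.subgroupOfEquivOfLe (H := T.D) (K := T.Kt) fun g hg => (T.mem_D.mp hg).1).toMonoidHom)
        (MulEquiv.injective _)
    haveI hn : (T.D.subgroupOf T.Kt).Normal := ⟨fun d hd k => T.mem_D.mpr ⟨(k * d * k⁻¹).2, by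
      show Odd (orderOf ((k : G) * d * (k : G)⁻¹))
      rw [show (k : G) * d * (k : G)⁻¹ = MulAut.conj (k : G) d from rfl, MulEquiv.orderOf_eq]
      exact (T.mem_D.mp hd).2⟩⟩
    have hidx : ∀ a c : T.Kt ⧸ T.D.subgroupOf T.Kt, a * c = c * a := by
      have hcs : ∀ a : T.Kt ⧸ T.D.subgroupOf T.Kt, a = 1 ∨ a = QuotientGroup.mk ⟨T.t, T.mem,
          Subgroup.mem_centralizer_singleton_iff.mpr rfl⟩ := by
        intro a
        obtain ⟨k, rfl⟩ := QuotientGroup.mk_surjective a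
        rcases T.Kt_cases k.2 with h | h
        · exact Or.inl ((QuotientGroup.eq_one_iff k).mpr h)
        · refine Or.inr (QuotientGroup.eq.mpr ?_)
          show ((k : G))⁻¹ * T.t ∈ T.D
          have h2 : T.t * (k : G) ∈ T.D := by
            rw [← Subgroup.mem_centralizer_singleton_iff.mp k.2.2]; exact h
          have h3 := T.D.inv_mem h2
          rwa [mul_inv_rev, T.t_inv] at h3
      intro a c
      rcases hcs a with rfl | rfl <;> rcases hcs c with rfl | rfl <;> simp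
    haveI := Group.isSolvable_of_comm hidx
    exact Group.isSolvable_of_ker_le_range (T.D.subgroupOf T.Kt).subtype (QuotientGroup.mk' (T.D.subgroupOf T.Kt)) (by rw [QuotientGroup.ker_mk', Subgroup.range_subtype])
  refine perfect_le (H := T.Kt) (inf_le_left.trans P.K_le_N) inferInstance ?_ hperf
  rw [← hperf, Subgroup.commutator_le]
  intro a ha c hc
  have hcc : ⁅a, c⁆ * T.t = T.t * ⁅a, c⁆ := hP _ (hperf ▸ Subgroup.commutator_mem_commutator ha hc)
  obtain ⟨w, hw⟩ := F.out_comm (P.act ⟨a, T.cent_le (hP a ha)⟩) (P.act ⟨c, T.cent_le (hP c hc)⟩)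
  obtain ⟨x, -, hx⟩ := T.inner_split hcc (w := w) (by
    rw [← hw, ← map_inv, ← map_inv, ← map_mul, ← map_mul, ← map_mul]
    exact P.act_congr rfl)
  rw [show ⁅a, c⁆ = (x : G) * ((x : G)⁻¹ * ⁅a, c⁆) by rw [mul_inv_cancel_left]]
  exact Subgroup.mul_mem_sup x.2 hx

end Ctr

end Cfsg.Lib.StdOne
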