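import Cfsg.Agent.StdOne.Inner
import Cfsg.Agent.InvolCalc.ZStarApps
import Cfsg.Prelude.Def_CaseTheorems
import Cfsg.Prelude.Def_TwoFusion

/-!
Either a conjugate of the centraliser meets the normaliser in an involution, or the conjugates of the involutions of
the centraliser commute with those of an involution of `A`.
-/

set_option autoImplicit false
set_option linter.unusedSectionVars false
set_option linter.style.haveILetI false

namespace Cfsg.Lib.StdOne

universe u v

theorem exists_central_in_normal {H : Type*} [Group H] [Finite H] (hH : IsPGroup 2 H) (R : Subgroup H) [R.Normal]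
    (hR : 2 ∣ Nat.card R) : ∃ c ∈ R, orderOf c = 2 ∧ ∀ h : H, h * c = c * h := by
  haveI : Fact (Nat.Prime 2) := ⟨Nat.prime_two⟩
  have hone : (1 : R) ∈ MulAction.fixedPoints (ConjAct H) R := fun h => Subtype.ext (by
    show ConjAct.toConjAct (ConjAct.ofConjAct h) • ((1 : R) : H) = 1
    rw [ConjAct.toConjAct_smul, Subgroup.coe_one, mul_one, mul_inv_cancel])
  obtain ⟨b, hb, hb1⟩ := (hH.of_equiv ConjAct.toConjAct).exists_fixed_point_of_prime_dvd_card_of_fixed_point R hR hone
  have hcomm : ∀ h : H, h * b = b * h := fun h => by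
    have h1 : h * (b : H) * h⁻¹ = b := by
      rw [← ConjAct.toConjAct_smul]; exact congrArg Subtype.val (hb (ConjAct.toConjAct h))
    exact mul_inv_eq_iff_eq_mul.mp h1
  obtain ⟨c, hc⟩ := exists_prime_orderOf_dvd_card' (G := Subgroup.zpowers (b : H)) 2 (by
    obtain ⟨n, hn, hcard⟩ := (hH.to_subgroup (Subgroup.zpowers (b : H))).nontrivial_iff_card.mp
      (Subgroup.nontrivial_iff_ne_bot _ |>.mpr fun h => hb1 (Subtype.ext (by
        rw [Subgroup.coe_one]; exact (Subgroup.zpowers_eq_bot.mp h).symm)))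
    rw [hcard]; exact dvd_pow_self 2 (by omega))
  obtain ⟨i, hi⟩ := Subgroup.mem_zpowers_iff.mp c.2
  refine ⟨c, hi ▸ R.zpow_mem b.2 i, by rw [Subgroup.orderOf_coe, hc], fun h => ?_⟩
  rw [← hi]
  exact ((show Commute h (b : H) from hcomm h).zpow_right i).eq

theorem dihedral_conj {G : Type*} [Group G] {x y : G} (hx : x * x = 1) (hy : y * y = 1) (j : ℤ) :
    (x * y) ^ j * x * ((x * y) ^ j)⁻¹ = (x * y) ^ (2 * j) * x := by
  have hxp : x * (x * y) * x⁻¹ = (x * y)⁻¹ := by
    rw [mul_inv_rev, inv_eq_of_mul_eq_one_right hx, inv_eq_of_mul_eq_one_right hy, ← mul_assoc x x y, hx, one_mul]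
  have h1 : x * ((x * y) ^ j)⁻¹ * x⁻¹ = (x * y) ^ j := by
    rw [← zpow_neg, ← conj_zpow, hxp, inv_zpow, ← zpow_neg, neg_neg]
  calc (x * y) ^ j * x * ((x * y) ^ j)⁻¹ = (x * y) ^ j * (x * ((x * y) ^ j)⁻¹ * x⁻¹) * x := by group
    _ = _ := by rw [h1, ← zpow_add, two_mul]

namespace Comp

variable {G : Type u} {M : Type v} [Group G] [Group M] [Finite G] [Finite M] (P : Comp G M) {z : M}
  (F : TightFacts M z)

/-- An element of `N` commuting with `x a` commutes with `x`. -/
theorem fix_of_mul {x a h : G} (hx : x ∈ P.K) (hx2 : x * x = 1) (ha : a ∈ P.A) (hh : h ∈ P.N)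
    (hc : h * (x * a) = x * a * h) : h * x = x * h := by
  set xh := h * x * h⁻¹ with hxh
  have hxK : xh ∈ P.K := P.conj_K hh hx
  have haA : h * a * h⁻¹ ∈ P.A := P.conj_A hh ha
  have h1 : xh * (h * a * h⁻¹) = x * a := by
    rw [hxh]
    calc h * x * h⁻¹ * (h * a * h⁻¹) = h * (x * a) * h⁻¹ := by group
      _ = _ := by rw [hc]; group
  set e := x⁻¹ * xh with he
  have heq : e = a * (h * a * h⁻¹)⁻¹ := by
    rw [he, eq_mul_inv_iff_mul_eq, mul_assoc, h1, inv_mul_cancel_left]
  have heA : e ∈ P.A := heq ▸ P.A.mul_mem ha (P.A.inv_mem haA)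
  have heK : e ∈ P.K := P.K.mul_mem (P.K.inv_mem hx) hxK
  have heZ : (⟨e, heA⟩ : P.A) ∈ Subgroup.center P.A := (P.ker _).mp (P.q_eq_one_of_K heK)
  have hex : e * x = x * e := P.K_comm hx heA
  have hxe : xh = x * e := by rw [he, mul_inv_cancel_left]
  have hee : e * e = 1 := by
    calc e * e = x * (x * e) * e := by rw [← mul_assoc x, hx2, one_mul]
      _ = x * (e * x) * e := by rw [hex]
      _ = (x * e) * (x * e) := by group
      _ = h * (x * x) * h⁻¹ := by rw [← hxe, hxh]; group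
      _ = 1 := by rw [hx2]; group
  obtain ⟨j, hj⟩ := P.odd
  have hcm := P.center_pow heZ
  rw [hj, pow_succ, pow_mul, pow_two] at hcm
  rw [show ((⟨e, heA⟩ : P.A) : G) = e from rfl, hee, one_pow, one_mul] at hcm
  rw [hcm, mul_one, hxh, mul_inv_eq_iff_eq_mul] at hxe
  exact hxe

include F

/-- No conjugate of an involution of `K` outside `K` normalises `A`: the conjugates of some involution of `K` and
of some involution of `A` commute. -/
theorem exists_commuting (hO : Cfsg.oddCore G = ⊥) (hII : ∀ g : G, ∀ x ∈ P.K, orderOf x = 2 → g * x * g⁻¹ ∈ P.N → g ∈ P.N) :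
    ∃ x a : G, orderOf x = 2 ∧ orderOf a = 2 ∧ ∀ g : G, x * (g * a * g⁻¹) = g * a * g⁻¹ * x := by
  haveI : Fact (Nat.Prime 2) := ⟨Nat.prime_two⟩
  classical
  -- a Sylow 2-subgroup inside `N` with central involutions of `K` and `A`
  let Tn : Sylow 2 P.N := default
  set T : Subgroup G := (Tn : Subgroup P.N).map P.N.subtype with hT
  have hcen : ∀ (L : Subgroup G), L ≤ P.N → 2 ∣ Nat.card L → (L.subgroupOf P.N).Normal →
      ∃ c ∈ L, orderOf c = 2 ∧ ∀ t ∈ T, t * c = c * t := by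
    intro L hLN hL hn
    haveI := hn
    have h2 : 2 ∣ Nat.card ((L.subgroupOf P.N).subgroupOf (Tn : Subgroup P.N)) := by
      have hdvd : 2 ∣ Nat.card (L.subgroupOf P.N) := by
        rwa [Nat.card_congr (Subgroup.subgroupOfEquivOfLe hLN).toEquiv]
      obtain ⟨c, hc⟩ := exists_prime_orderOf_dvd_card' (G := L.subgroupOf P.N) 2 hdvd
      obtain ⟨S, hS⟩ := (IsPGroup.of_card (n := 1) (show Nat.card (Subgroup.zpowers (c : P.N)) = 2 ^ 1 by
        rw [Nat.card_zpowers, Subgroup.orderOf_coe, hc, pow_one])).exists_le_sylow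
      obtain ⟨m, hm⟩ := MulAction.exists_smul_eq P.N S Tn
      have hmem : m * (c : P.N) * m⁻¹ ∈ (Tn : Subgroup P.N) := by
        rw [← hm, Sylow.coe_subgroup_smul]
        exact Subgroup.smul_mem_pointwise_smul _ _ _ (hS (Subgroup.mem_zpowers _))
      have h3 := orderOf_dvd_natCard
        (⟨⟨_, hmem⟩, hn.conj_mem _ c.2 m⟩ : (L.subgroupOf P.N).subgroupOf (Tn : Subgroup P.N))
      have h4 : orderOf (⟨⟨_, hmem⟩, hn.conj_mem _ c.2 m⟩ : (L.subgroupOf P.N).subgroupOf (Tn : Subgroup P.N)) = 2 := by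
        rw [← Subgroup.orderOf_coe, ← Subgroup.orderOf_coe]
        exact ((MulAut.conj m).orderOf_eq (c : P.N)).trans (by rw [Subgroup.orderOf_coe, hc])
      rwa [h4] at h3
    obtain ⟨c, hc, hco, hcc⟩ := exists_central_in_normal Tn.isPGroup' _ h2
    refine ⟨((c : P.N) : G), hc, by rw [Subgroup.orderOf_coe, Subgroup.orderOf_coe, hco], ?_⟩
    rintro _ ⟨t, ht, rfl⟩
    exact congrArg (fun w : (Tn : Subgroup P.N) => ((w : P.N) : G)) (hcc ⟨t, ht⟩)
  obtain ⟨x, hx, hxo, hxT⟩ := hcen P.K P.K_le_N (even_iff_two_dvd.mp P.std.2.1.1)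
    ⟨fun k hk n => P.conj_K n.2 hk⟩
  obtain ⟨a, haA, hao, haT⟩ := hcen P.A P.A_le_N (by
      obtain ⟨a, ha, -⟩ := P.exists_lift_invol F.order_z
      exact ha ▸ Subgroup.orderOf_dvd_natCard _ a.2)
    ⟨fun k hk n => P.conj_A n.2 hk⟩
  refine ⟨x, a, hxo, hao, ?_⟩
  -- `T` is a Sylow subgroup of `G`
  have hTN : T ≤ P.N := Subgroup.map_subtype_le _
  have hT2 : IsPGroup 2 T := Tn.isPGroup'.map _
  have hxT' : x ∈ T := by
    obtain ⟨S, hS⟩ := (hT2.comap_subtype (H := T) (K := P.N)).exists_le_sylow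
    have hTn : ((Tn : Subgroup P.N)) = T.subgroupOf P.N := (Subgroup.comap_map_eq_self_of_injective P.N.subtype_injective _).symm
    have hx2' : IsPGroup 2 (Subgroup.zpowers (⟨x, P.K_le_N hx⟩ : P.N)) :=
      IsPGroup.of_card (n := 1) (by rw [Nat.card_zpowers, Subgroup.orderOf_mk, hxo, pow_one])
    have hnorm : Subgroup.zpowers (⟨x, P.K_le_N hx⟩ : P.N) ≤ Subgroup.normalizer ((Tn : Subgroup P.N) : Set P.N) := by
      refine (Subgroup.zpowers_le).mpr ((Subgroup.centralizer_le_normalizer _) ?_)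
      refine Subgroup.mem_centralizer_iff.mpr fun t ht => Subtype.ext ?_
      exact hxT t ⟨t, ht, rfl⟩
    have h2 := IsPGroup.to_sup_of_normal_right' hx2' Tn.isPGroup' hnorm
    have h3 : Subgroup.zpowers (⟨x, P.K_le_N hx⟩ : P.N) ⊔ (Tn : Subgroup P.N) = Tn := Tn.3 h2 le_sup_right
    exact ⟨⟨x, P.K_le_N hx⟩, h3 ▸ Subgroup.mem_sup_left (Subgroup.mem_zpowers _), rfl⟩
  have hsyl : ∀ R : Subgroup G, IsPGroup 2 R → T ≤ R → R = T := by
    intro R hR hTR
    by_contra hne
    haveI : Group.IsNilpotent R := hR.isNilpotent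
    have hlt : T.subgroupOf R < ⊤ := lt_top_iff_ne_top.mpr fun h =>
      hne (le_antisymm (Subgroup.subgroupOf_eq_top.mp h) hTR)
    obtain ⟨p, hpN, hpT⟩ := SetLike.exists_of_lt (Group.normalizerCondition_of_isNilpotent _ hlt)
    have hpx : (p : G) * x * (p : G)⁻¹ ∈ P.N :=
      hTN ((Subgroup.mem_normalizer_iff.mp hpN ⟨x, hTR hxT'⟩).mp hxT')
    have hp := hII p x hx hxo hpx
    have hmax := Tn.3 (hR.comap_subtype (H := R) (K := P.N)) (fun t ht => hTR ⟨t, ht, rfl⟩)
    have : (⟨(p : G), hp⟩ : P.N) ∈ (Tn : Subgroup P.N) := hmax ▸ p.2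
    exact hpT ⟨_, this, rfl⟩
  obtain ⟨TS, hTS⟩ := hT2.exists_le_sylow
  have hTeq : (TS : Subgroup G) = T := hsyl _ TS.isPGroup' hTS
  have hxx := sq_one hxo
  have haa := sq_one hao
  -- (b): conjugates of `a` commuting with `x` lie in `A`
  have hY : ∀ g : G, x * (g * a * g⁻¹) = g * a * g⁻¹ * x → g * a * g⁻¹ ∈ P.A := by
    intro g hg
    set H := Subgroup.centralizer ({a} : Set G) with hH
    set x' := g⁻¹ * x * g with hx'
    have hx'H : x' ∈ H := Subgroup.mem_centralizer_singleton_iff.mpr (by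
      rw [hx']
      calc g⁻¹ * x * g * a = g⁻¹ * (x * (g * a * g⁻¹)) * g := by group
        _ = g⁻¹ * (g * a * g⁻¹ * x) * g := by rw [hg]
        _ = _ := by group)
    have hTH : T ≤ H := fun t ht => Subgroup.mem_centralizer_singleton_iff.mpr (haT t ht)
    let TH : Sylow 2 H := TS.subtype (hTeq ▸ hTH)
    have hx'o : orderOf (⟨x', hx'H⟩ : H) = 2 := by
      rw [Subgroup.orderOf_mk, hx', show g⁻¹ * x * g = MulAut.conj g⁻¹ x by simp, MulEquiv.orderOf_eq, hxo]
    obtain ⟨S, hS⟩ := (IsPGroup.of_card (n := 1) (show Nat.card (Subgroup.zpowers (⟨x', hx'H⟩ : H)) = 2 ^ 1 by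
      rw [Nat.card_zpowers, hx'o, pow_one])).exists_le_sylow
    obtain ⟨c, hc⟩ := MulAction.exists_smul_eq H S TH
    have hmem : c * ⟨x', hx'H⟩ * c⁻¹ ∈ (TH : Subgroup H) := by
      rw [← hc, Sylow.coe_subgroup_smul]
      exact Subgroup.smul_mem_pointwise_smul _ _ _ (hS (Subgroup.mem_zpowers _))
    have hmem' : (c : G) * x' * (c : G)⁻¹ ∈ T := hTeq ▸ hmem
    have hn : (c : G) * g⁻¹ ∈ P.N := hII _ x hx hxo (by
      convert hTN hmem' using 1; rw [hx']; group)
    have hca := Subgroup.mem_centralizer_singleton_iff.mp c.2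
    have := P.conj_A (P.N.inv_mem hn) haA
    convert this using 1
    calc g * a * g⁻¹ = g * ((c : G)⁻¹ * (c * a)) * g⁻¹ := by group
      _ = g * ((c : G)⁻¹ * (a * c)) * g⁻¹ := by rw [hca]
      _ = _ := by group
  -- conjugates of `a` normalising `A` lie in `A`
  have hYN : ∀ g : G, g * a * g⁻¹ ∈ P.N → g * a * g⁻¹ ∈ P.A := by
    intro g hg
    have hyo : orderOf (⟨_, hg⟩ : P.N) = 2 := by
      rw [Subgroup.orderOf_mk, show g * a * g⁻¹ = MulAut.conj g a from rfl, MulEquiv.orderOf_eq, hao]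
    obtain ⟨S, hS⟩ := (IsPGroup.of_card (n := 1) (show Nat.card (Subgroup.zpowers (⟨_, hg⟩ : P.N)) = 2 ^ 1 by
      rw [Nat.card_zpowers, hyo, pow_one])).exists_le_sylow
    obtain ⟨n, hn⟩ := MulAction.exists_smul_eq P.N S Tn
    have hmem : n * ⟨_, hg⟩ * n⁻¹ ∈ (Tn : Subgroup P.N) := by
      rw [← hn, Sylow.coe_subgroup_smul]
      exact Subgroup.smul_mem_pointwise_smul _ _ _ (hS (Subgroup.mem_zpowers _))
    have hcm := hxT _ ⟨_, hmem, rfl⟩
    have hyA := hY ((n : G) * g) (by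
      have h1 : (n : G) * (g * a * g⁻¹) * (n : G)⁻¹ * x = x * ((n : G) * (g * a * g⁻¹) * (n : G)⁻¹) := hcm
      rw [show (n : G) * g * a * ((n : G) * g)⁻¹ = (n : G) * (g * a * g⁻¹) * (n : G)⁻¹ by group, h1])
    have := P.conj_A (P.N.inv_mem n.2) hyA
    convert this using 1; group
  intro g
  set y := g * a * g⁻¹ with hy
  have hyy : y * y = 1 := by
    calc y * y = g * (a * a) * g⁻¹ := by rw [hy]; group
      _ = 1 := by rw [haa]; group
  have hyconj : ∀ h : G, h * y * h⁻¹ = (h * g) * a * (h * g)⁻¹ := fun h => by rw [hy]; group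
  set p := x * y with hp
  have hyx : y = x * p := by rw [hp, ← mul_assoc, hxx, one_mul]
  rcases Nat.even_or_odd (orderOf p) with heven | hodd
  swap
  · -- odd order: `x` would be conjugate to `a`
    exfalso
    obtain ⟨i, hi⟩ := hodd
    have hp1 : p ^ (2 * i + 1) = 1 := hi ▸ pow_orderOf_eq_one p
    have h1 : p ^ (i : ℤ) * x * (p ^ (i : ℤ))⁻¹ = y := by
      rw [hp, dihedral_conj hxx hyy, ← hp]
      have h2 : p ^ (2 * (i : ℤ)) = p⁻¹ := by
        rw [← Nat.cast_ofNat (R := ℤ), ← Nat.cast_mul, zpow_natCast]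
        exact eq_inv_of_mul_eq_one_left (by rw [← pow_succ, hp1])
      rw [h2, hp, mul_inv_rev, inv_eq_of_mul_eq_one_right hxx, inv_eq_of_mul_eq_one_right hyy, mul_assoc, hxx, mul_one]
    have h3 : (g⁻¹ * p ^ (i : ℤ)) * x * (g⁻¹ * p ^ (i : ℤ))⁻¹ = a := by
      calc _ = g⁻¹ * (p ^ (i : ℤ) * x * (p ^ (i : ℤ))⁻¹) * g := by group
        _ = a := by rw [h1, hy]; group
    have hmem : a ∈ P.K := h3 ▸ P.conj_K (hII _ x hx hxo (h3.symm ▸ P.A_le_N haA)) hx
    have := P.orderOf_q (a := ⟨a, haA⟩) hao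
    rw [P.q_eq_one_of_K (x := ⟨a, haA⟩) hmem, orderOf_one] at this
    exact absurd this (by norm_num)
  obtain ⟨m, hm⟩ := heven
  have hm0 : m ≠ 0 := fun h => by
    have := orderOf_pos p
    omega
  set w := p ^ m with hw
  have hww : w * w = 1 := by rw [hw, ← pow_add, ← hm, pow_orderOf_eq_one]
  have hw1 : w ≠ 1 := fun h => by
    have := Nat.le_of_dvd (Nat.pos_of_ne_zero hm0) (orderOf_dvd_of_pow_eq_one h)
    omega
  have hwinv : w⁻¹ = w := inv_eq_of_mul_eq_one_right hww
  have hwx : x * w = w * x := by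
    have h1 : x * p * x⁻¹ = p⁻¹ := by
      rw [hp, mul_inv_rev, inv_eq_of_mul_eq_one_right hxx, inv_eq_of_mul_eq_one_right hyy, ← mul_assoc x x y, hxx, one_mul]
    have h2 : x * w * x⁻¹ = w := by rw [hw, ← conj_pow, h1, inv_pow, ← hw, hwinv]
    exact mul_inv_eq_iff_eq_mul.mp h2
  have hpw : p * w = w * p := by rw [hw, ← pow_succ', pow_succ]
  have hwy : y * w = w * y := by
    rw [hyx, mul_assoc, hpw, ← mul_assoc, hwx, mul_assoc]
  rcases Nat.even_or_odd m with ⟨j, hj⟩ | ⟨j, hj⟩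
  · -- `x w` is a conjugate of `x`
    have h1 : p ^ (j : ℤ) * x * (p ^ (j : ℤ))⁻¹ = w * x := by
      rw [hp, dihedral_conj hxx hyy, ← hp, show 2 * (j : ℤ) = ((m : ℕ) : ℤ) by rw [hj]; push_cast; ring, zpow_natCast]
    have hwxN : w * x ∈ P.N := P.cent_le hx hxo (by rw [← mul_assoc x w, hwx])
    have hwxK : w * x ∈ P.K := h1 ▸ P.conj_K (hII _ x hx hxo (h1.symm ▸ hwxN)) hx
    have hwK : w ∈ P.K := by
      have := P.K.mul_mem hwxK hx
      rwa [mul_assoc, hxx, mul_one] at this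
    have hwo : orderOf w = 2 := orderOf_eq_prime (by rw [pow_two, hww]) hw1
    exact (P.K_comm hx (hYN g (P.cent_le hwK hwo hwy))).symm
  · -- `w x` is a conjugate of `y`
    have hyA : x * w ∈ P.A := by
      have h1 : ∃ h : G, h * y * h⁻¹ = x * w := by
        refine ⟨p ^ (-(j : ℤ)), ?_⟩
        have h2 : p ^ (-(j : ℤ)) * x * (p ^ (-(j : ℤ)))⁻¹ = p ^ (2 * (-(j : ℤ))) * x := dihedral_conj hxx hyy _
        calc p ^ (-(j : ℤ)) * y * (p ^ (-(j : ℤ)))⁻¹ = (p ^ (-(j : ℤ)) * x * (p ^ (-(j : ℤ)))⁻¹) * p := by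
              rw [hyx]; group
          _ = p ^ (2 * (-(j : ℤ))) * x * p := by rw [h2]
          _ = p ^ (2 * (-(j : ℤ))) * p⁻¹ * x := by
              rw [hp, mul_inv_rev, inv_eq_of_mul_eq_one_right hxx, inv_eq_of_mul_eq_one_right hyy]
              simp only [mul_assoc, hxx, mul_one]
              rw [← mul_assoc x x y, hxx, one_mul]
          _ = w⁻¹ * x := by
              rw [hw, hj, ← zpow_natCast, ← zpow_neg, ← zpow_sub_one]
              congr 2; push_cast; ring
          _ = _ := by rw [hwinv, hwx]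
      obtain ⟨h, hh⟩ := h1
      rw [← hh, hyconj]
      refine hY _ ?_
      rw [← hyconj, hh]
      calc x * (x * w) = x * (w * x) := by rw [hwx]
        _ = _ := by rw [mul_assoc]
    obtain ⟨y', hy'⟩ : ∃ y', y' = x * w := ⟨_, rfl⟩
    rw [← hy'] at hyA
    have hwy' : w = x * y' := by rw [hy', ← mul_assoc, hxx, one_mul]
    have hxy' : y' * x = x * y' := (P.K_comm hx hyA)
    have hy'2 : y' * y' = 1 := by
      calc y' * y' = x * (w * x) * w := by rw [hy']; group
        _ = (x * x) * (w * w) := by rw [← hwx]; group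
        _ = 1 := by rw [hxx, hww, one_mul]
    have hy'1 : y' ≠ 1 := fun h => by
      rw [h, mul_one] at hwy'
      have h1 : y * x = x * y := by rw [← hwy', hwy]
      have h2 : p * p = 1 := by
        calc p * p = x * (y * x) * y := by rw [hp]; group
          _ = (x * x) * (y * y) := by rw [h1]; group
          _ = 1 := by rw [hxx, hyy, one_mul]
      have := orderOf_le_of_pow_eq_one (by norm_num) (pow_two p ▸ h2)
      have hm1 : m = 1 := by omega
      rw [hw, hm1, pow_one, hp, mul_eq_left] at hwy'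
      have h3 := congrArg orderOf hwy'
      rw [hy, show g * a * g⁻¹ = MulAut.conj g a from rfl, MulEquiv.orderOf_eq, hao, orderOf_one] at h3
      exact absurd h3 (by norm_num)
    have hy'o : orderOf y' = 2 := orderOf_eq_prime (by rw [pow_two, hy'2]) hy'1
    -- conjugate `y'` to `a` inside `A`
    obtain ⟨k, hk⟩ := isConj_iff.mp ((F.one _ (P.orderOf_q (a := ⟨y', hyA⟩) hy'o)).trans
      (F.one _ (P.orderOf_q (a := ⟨a, haA⟩) hao)).symm)
    obtain ⟨k, rfl⟩ := P.surj k
    have hka : (k : G) * y' * (k : G)⁻¹ = a := by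
      refine congrArg Subtype.val (P.eq_of_q (a := ⟨_, P.conj_A (P.A_le_N k.2) hyA⟩) (b := ⟨a, haA⟩) ?_ hao ?_)
      · show orderOf ((k : G) * y' * (k : G)⁻¹) = 2
        rw [show (k : G) * y' * (k : G)⁻¹ = MulAut.conj (k : G) y' from rfl, MulEquiv.orderOf_eq, hy'o]
      · rw [← hk, ← map_inv, ← map_mul, ← map_mul]; rfl
    have hkx : (k : G) * x * (k : G)⁻¹ = x := by rw [P.K_comm hx k.2, mul_inv_cancel_right]
    set H := Subgroup.centralizer ({w} : Set G) with hH
    set R := (k : G)⁻¹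
    have hTw : ∀ t ∈ T, R * t * R⁻¹ ∈ H := by
      intro t ht
      refine Subgroup.mem_centralizer_singleton_iff.mpr ?_
      have h1 : t * (x * a) = x * a * t := by rw [← mul_assoc, hxT t ht, mul_assoc, haT t ht, ← mul_assoc]
      have h2 : (k : G) * w * (k : G)⁻¹ = x * a := by
        calc (k : G) * w * (k : G)⁻¹ = (k : G) * x * (k : G)⁻¹ * ((k : G) * y' * (k : G)⁻¹) := by rw [hwy']; group
          _ = _ := by rw [hkx, hka]
      calc R * t * R⁻¹ * w = R * (t * ((k : G) * w * (k : G)⁻¹)) * k := by simp only [R]; group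
        _ = R * ((k : G) * w * (k : G)⁻¹ * t) * k := by rw [h2, h1]
        _ = _ := by simp only [R]; group
    have hxH : x ∈ H := Subgroup.mem_centralizer_singleton_iff.mpr hwx
    -- `x` is isolated in `H`
    have hfix : ∀ h ∈ H, h ∈ P.N → h * x = x * h := fun h hh hhN =>
      P.fix_of_mul hx hxx hyA hhN (by rw [← hwy']; exact Subgroup.mem_centralizer_singleton_iff.mp hh)
    have hiso : Cfsg.IsIsolatedInvolution (⟨x, hxH⟩ : H) := by
      refine ⟨by rw [Subgroup.orderOf_mk, hxo], fun h hc => Subtype.ext ?_⟩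
      have hc' : x * ((h : G) * x * (h : G)⁻¹) = (h : G) * x * (h : G)⁻¹ * x := congrArg Subtype.val hc.eq
      have hN := hII h x hx hxo (P.cent_le hx hxo hc'.symm)
      show (h : G) * x * (h : G)⁻¹ = x
      rw [hfix h h.2 hN, mul_inv_cancel_right]
    have hz := Cfsg.Lib.ZStarApps.zstarProp hiso
    set O : Subgroup G := (Cfsg.pPrimeCore 2 H).map H.subtype with hOdef
    have hOodd : Odd (Nat.card O) := by
      rw [hOdef, Subgroup.card_map_of_injective H.subtype_injective]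
      exact Cfsg.Lib.ZStarApps.odd_card_pPrimeCore
    have hOn : ∀ h ∈ H, ∀ o ∈ O, h * o * h⁻¹ ∈ O := by
      rintro h hh _ ⟨q, hq, rfl⟩
      exact ⟨⟨h, hh⟩ * q * ⟨h, hh⟩⁻¹, (inferInstance : (Cfsg.pPrimeCore 2 H).Normal).conj_mem q hq _, rfl⟩
    have hOH : ∀ o ∈ O, o ∈ H := fun o ho => Subgroup.map_subtype_le _ ho
    by_cases hr : ∃ r ∈ P.K, orderOf r = 2 ∧ r ≠ x ∧ r * x = x * r
    · obtain ⟨r, hr, hro, hrx, hcomm⟩ := hr
      have hrr := sq_one hro
      have hrH : r ∈ H := Subgroup.mem_centralizer_singleton_iff.mpr (by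
        rw [hwy', ← mul_assoc, hcomm, mul_assoc, ← P.K_comm hr hyA, ← mul_assoc])
      have hrxK : r * x ∈ P.K := P.K.mul_mem hr hx
      have hrxo : orderOf (r * x) = 2 := orderOf_eq_prime (by
        rw [pow_two, mul_assoc, ← mul_assoc x, ← hcomm, mul_assoc r x, hxx, mul_one, hrr])
        fun h => hrx (by rw [← mul_inv_eq_one, inv_eq_of_mul_eq_one_right hxx, h])
      have hall := StdWreath.trivial_of_four hOodd hrr hxx hcomm
        (fun o ho => by have := hOn r hrH o ho; rwa [inv_eq_of_mul_eq_one_right hrr] at this)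
        (fun o ho => by have := hOn x hxH o ho; rwa [inv_eq_of_mul_eq_one_right hxx] at this)
        (fun o ho h => hfix o (hOH o ho) (P.cent_le hr hro h))
        (fun o ho h => by
          have h1 := hfix o (hOH o ho) (P.cent_le hrxK hrxo h)
          calc o * r = o * (r * x) * x := by rw [mul_assoc o, mul_assoc r, hxx, mul_one]
            _ = r * (x * o) * x := by rw [h]; group
            _ = r * (o * x) * x := by rw [h1]
            _ = r * o := by rw [mul_assoc r, mul_assoc o, hxx, mul_one])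
      -- so `y w`, a conjugate of `x` in `H`, equals `x`
      have hxw : ∃ h ∈ H, h * x * h⁻¹ = y * w := by
        refine ⟨p ^ (-((j : ℤ) + 1)), H.zpow_mem (Subgroup.mem_centralizer_singleton_iff.mpr hpw) _, ?_⟩
        rw [hp, dihedral_conj hxx hyy, ← hp]
        have h1 : p ^ (2 * -((j : ℤ) + 1)) = w * p⁻¹ := by
          rw [show 2 * -((j : ℤ) + 1) = -((m : ℕ) : ℤ) + (-1) by rw [hj]; push_cast; ring, zpow_add, zpow_neg,
            zpow_natCast, ← hw, hwinv, zpow_neg_one]
        rw [h1, mul_assoc, show p⁻¹ * x = y by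
          rw [hp, mul_inv_rev, inv_eq_of_mul_eq_one_right hxx, inv_eq_of_mul_eq_one_right hyy, mul_assoc, hxx, mul_one],
          ← hwy]
      obtain ⟨h, hh, hhx⟩ := hxw
      have ho : (y * w) * x ∈ O := by
        obtain hz' := hz ⟨h, hh⟩
        have h2 := (Cfsg.pPrimeCore 2 H).inv_mem hz'
        refine ⟨_, h2, ?_⟩
        simp only [Subgroup.coe_subtype, Subgroup.coe_mul, Subgroup.coe_inv, mul_inv_rev, inv_inv]
        rw [← hhx, inv_eq_of_mul_eq_one_right hxx]; group
      obtain ⟨o, ho'⟩ : ∃ o, o = (y * w) * x := ⟨_, rfl⟩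
      rw [← ho'] at ho
      have hox := hall o ho
      have hoo : o * o = 1 := by
        have h3 : (o * x) * (o * x) = 1 := by
          rw [ho', mul_assoc (y * w) x x, hxx, mul_one, ← hhx]
          calc h * x * h⁻¹ * (h * x * h⁻¹) = h * (x * x) * h⁻¹ := by group
            _ = 1 := by rw [hxx]; group
        calc o * o = o * (o * x) * x := by rw [mul_assoc o (o * x), mul_assoc o x, hxx, mul_one]
          _ = o * (x * o) * x := by rw [hox]
          _ = (o * x) * (o * x) := by group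
          _ = 1 := h3
      have ho1 := StdWreath.eq_one_of_sq hOodd ho hoo
      rw [ho'] at ho1
      have hywx : y * w = x := by
        rw [← mul_inv_eq_one, inv_eq_of_mul_eq_one_right hxx]; exact ho1
      have hy2 : y = x * w := by rw [← hywx, mul_assoc, hww, mul_one]
      show x * y = y * x
      rw [hy2, mul_assoc, ← hwx]
    · -- a single involution: `x` is central
      push Not at hr
      have hisoG : Cfsg.IsIsolatedInvolution x := by
        refine ⟨hxo, fun h hc => ?_⟩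
        have hK := P.conj_K (hII h x hx hxo (P.cent_le hx hxo hc.eq.symm)) hx
        by_contra hne
        exact hr _ hK (by rw [show h * x * h⁻¹ = MulAut.conj h x from rfl, MulEquiv.orderOf_eq, hxo]) hne hc.eq.symm
      have h := Cfsg.Lib.ZStarApps.zstarProp hisoG y
      rw [show Cfsg.pPrimeCore 2 G = ⊥ from hO, Subgroup.mem_bot, mul_inv_eq_one, mul_inv_eq_iff_eq_mul] at h
      exact h

end Comp

end Cfsg.Lib.StdOne
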