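import Cfsg.Agent.StdOne.Ctr

/-!
The facts about `M` used in the end game with one class of involutions: the elementary subgroups and automorphisms of
a Sylow 2-subgroup `S`, and the outer automorphisms.
-/

set_option autoImplicit false

namespace Cfsg.Lib.StdOne

universe v

variable {M : Type v} [Group M]

/-- `α` is not inner. -/
def IsOuterAut (α : MulAut M) : Prop := ∀ w : M, α ≠ MulAut.conj w

/-- Facts inside a Sylow 2-subgroup `S` with the two elementary subgroups `V`, `U` of order 16. -/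
structure SylFacts (V U S : Subgroup M) (z : M) : Prop where
  card_S : Nat.card S = 2 ^ 7
  roots_ne : Nat.card {s : M // s ∈ S ∧ s * s = z} ≠ Nat.card {s : M // s ∈ S ∧ s * s = 1}
  S_gen : S ≤ Subgroup.closure {x | x ∈ S ∧ x * x = 1}
  elem_le : ∀ E : Subgroup M, E ≤ S → Cfsg.IsElementaryAbelian 2 E → Nat.card E ≤ 16
  elem_sixteen : ∀ E : Subgroup M, E ≤ S → Cfsg.IsElementaryAbelian 2 E → Nat.card E = 16 → E = V ∨ E = U
  elem_eight : ∀ E : Subgroup M, E ≤ S → Cfsg.IsElementaryAbelian 2 E → 8 ≤ Nat.card E →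
    (4 ≤ Nat.card (E ⊓ V : Subgroup M) ∧ ¬ E ⊓ V ≤ U) ∨ (4 ≤ Nat.card (E ⊓ U : Subgroup M) ∧ ¬ E ⊓ U ≤ V)
  fix_auto : ∀ τ : S ≃* S, (∀ x, τ (τ x) = x) → 8 ≤ Nat.card {x : S // τ x = x}
  swap_fix : ∀ τ : S ≃* S, (∀ x, τ (τ x) = x) → (∀ x : S, (x : M) ∈ V → (τ x : M) ∈ U) →
    Nat.card {x : S // τ x = x} ≤ 16

/-- Facts used when `M` has an outer automorphism. -/
structure OuterFacts (V U S : Subgroup M) : Prop where
  out_two : ∀ α β : MulAut M, IsOuterAut α → IsOuterAut β → ∃ w, α * β = MulAut.conj w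
  self_norm : ∀ n ∈ Subgroup.normalizer (S : Set M), n ∈ S
  outer_invol : ∀ α : MulAut M, IsOuterAut α → ∃ τ : MulAut M, τ * τ = 1 ∧ IsOuterAut τ ∧ ∀ x ∈ S, τ x ∈ S
  aut_NV : ∀ α : MulAut M, IsOuterAut α → ∀ f : MulAut ↥(Subgroup.normalizer (V : Set M)),
    (∀ x : ↥(Subgroup.normalizer (V : Set M)), (x : M) ∈ S → (f x : M) ∈ S) →
    ∃ w : ↥(Subgroup.normalizer (V : Set M)), f = MulAut.conj w
  aut_NU : ∀ α : MulAut M, IsOuterAut α → ∀ f : MulAut ↥(Subgroup.normalizer (U : Set M)),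
    (∀ x : ↥(Subgroup.normalizer (U : Set M)), (x : M) ∈ S → (f x : M) ∈ S) →
    ∃ w : ↥(Subgroup.normalizer (U : Set M)), f = MulAut.conj w

end Cfsg.Lib.StdOne
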