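import Cfsg.Agent.StdOne.Bar
import Cfsg.Agent.StdOne.EndFacts

/-!
The end game, first part: 2-subgroups of `C(t)` are small, and `t` is not fused into `T₀ = S × S`.
-/

set_option autoImplicit false
set_option linter.unusedSectionVars false
set_option linter.style.haveILetI false

namespace Cfsg.Lib.StdOne

universe u v

variable {G : Type u} {M : Type v} [Group G] [Group M]

/-- All the facts about `M`. -/
structure Facts (V U S : Subgroup M) (z : M) : Prop where
  tight : TightFacts M z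
  one : OneFacts V U S z
  syl : SylFacts V U S z
  outer : OuterFacts V U S

/-- `z` in `S`. -/
def Facts.zS {V U S : Subgroup M} {z : M} (E : Facts V U S z) : S := ⟨z, E.one.U_le E.one.z_mem.1⟩

theorem two_pow_isPGroup {g : G} {i : ℕ} (h : g ^ 2 ^ i = 1) : IsPGroup 2 (Subgroup.zpowers g) := by
  rintro ⟨w, hw⟩
  obtain ⟨k, rfl⟩ := Subgroup.mem_zpowers_iff.mp hw
  refine ⟨i, Subtype.ext ?_⟩
  rw [SubgroupClass.coe_pow, Subgroup.coe_one, ← zpow_natCast, ← zpow_mul, mul_comm, zpow_mul, zpow_natCast, h,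
    one_zpow]

namespace Facts

variable [Finite M] {V U S : Subgroup M} {z : M} (E : Facts V U S z)
include E

theorem z_ne : z ≠ 1 := E.one.z_ne

theorem zS_ne : E.zS ≠ 1 := fun h => E.z_ne (congrArg Subtype.val h)

theorem zS_sq : E.zS * E.zS = 1 :=
  Subtype.ext (by
    rw [Subgroup.coe_mul, Subgroup.coe_one, ← pow_two]
    exact E.one.elemU.2 z E.one.z_mem.1)

theorem zS_comm (x : S) : x * E.zS = E.zS * x :=
  Subtype.ext (((E.one.center_S z).mpr (Or.inr rfl)).2 x x.2)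

theorem central_cases {x : S} (h : ∀ s : S, s * x = x * s) : x = 1 ∨ x = E.zS := by
  rcases (E.one.center_S (x : M)).mp ⟨x.2, fun s hs => congrArg Subtype.val (h ⟨s, hs⟩)⟩ with h | h
  · exact Or.inl (Subtype.ext h)
  · exact Or.inr (Subtype.ext h)

/-- An element squaring to `1` is conjugate to `1` or `z`. -/
theorem exists_rep {x : S} (hx : x * x = 1) : ∃ r : S, (r = 1 ∨ r = E.zS) ∧ IsConj (x : M) r := by
  by_cases h : x = 1
  · exact ⟨1, Or.inl rfl, h ▸ IsConj.refl _⟩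
  exact ⟨E.zS, Or.inr rfl, E.tight.one _ (orderOf_eq_prime (by rw [pow_two]; exact congrArg Subtype.val hx)
    fun h1 => h (Subtype.ext h1))⟩

theorem card_two_le {Q : Subgroup M} (hQ : IsPGroup 2 Q) : Nat.card Q ≤ 2 ^ 7 := by
  haveI : Fact (Nat.Prime 2) := ⟨Nat.prime_two⟩
  obtain ⟨k, hk⟩ := IsPGroup.iff_card.mp hQ
  have h := Subgroup.card_subgroup_dvd_card Q
  rw [← Subgroup.card_mul_index S, hk] at h
  rw [← E.syl.card_S, hk]
  exact Nat.le_of_dvd Nat.card_pos (Nat.Coprime.dvd_of_dvd_mul_right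
    (Nat.Coprime.pow_left _ ((Nat.Prime.coprime_iff_not_dvd Nat.prime_two).mpr E.one.S_sylow)) h)

end Facts

namespace Double

variable {P : Comp G M} {T : Ctr P} {V U S : Subgroup M} (W : Double T V U S) {z : M}

/-- The image of `S × S`. -/
def T0 : Subgroup G := W.ι.range

theorem mem_T0 (p : S × S) : W.ι p ∈ W.T0 := ⟨p, rfl⟩

/-- The image of `A × B`. -/
def pr (A B : Subgroup M) : Subgroup G := ((A.subgroupOf S).prod (B.subgroupOf S)).map W.ι

theorem mem_pr {A B : Subgroup M} {g : G} :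
    g ∈ W.pr A B ↔ ∃ x y : S, (x : M) ∈ A ∧ (y : M) ∈ B ∧ W.ι (x, y) = g := by
  rw [pr, Subgroup.mem_map]
  constructor
  · rintro ⟨⟨x, y⟩, ⟨hx, hy⟩, h⟩; exact ⟨x, y, hx, hy, h⟩
  · rintro ⟨x, y, hx, hy, h⟩; exact ⟨(x, y), ⟨hx, hy⟩, h⟩

theorem pr_le (A B : Subgroup M) : W.pr A B ≤ W.T0 := fun _ hg => by
  obtain ⟨x, y, -, -, h⟩ := W.mem_pr.mp hg
  exact ⟨(x, y), h⟩

theorem mem_pr_iff {A B : Subgroup M} {x y : S} : W.ι (x, y) ∈ W.pr A B ↔ (x : M) ∈ A ∧ (y : M) ∈ B := by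
  constructor
  · intro h
    obtain ⟨x', y', hx, hy, he⟩ := W.mem_pr.mp h
    have h2 := W.inj he
    obtain ⟨rfl, rfl⟩ := Prod.mk.injEq _ _ _ _ ▸ h2
    exact ⟨hx, hy⟩
  · rintro ⟨hx, hy⟩; exact W.mem_pr.mpr ⟨x, y, hx, hy, rfl⟩

theorem card_pr {A B : Subgroup M} (hA : A ≤ S) (hB : B ≤ S) :
    Nat.card (W.pr A B) = Nat.card A * Nat.card B := by
  rw [pr, Subgroup.card_map_of_injective W.inj, ← Nat.card_prod]
  exact Nat.card_congr ((Subgroup.prodEquiv _ _).toEquiv.trans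
    ((Subgroup.subgroupOfEquivOfLe hA).toEquiv.prodCongr (Subgroup.subgroupOfEquivOfLe hB).toEquiv))

theorem t_flip (p : S × S) : T.t * W.ι p * T.t = W.ι (p.2, p.1) := W.flip p.1 p.2

variable [Finite G] [Finite M]

theorem t_comm_diag (x : S) : W.ι (x, x) * T.t = T.t * W.ι (x, x) := by
  obtain ⟨a, ha, -⟩ := W.diag x
  rw [← ha]
  exact T.t_comm a.2

/-- An element of `C(t)` mapping a diagonal element to another acts accordingly on `M`. -/
theorem act_diag {g : G} (hg : g * T.t = T.t * g) {x y : S} (h : g * W.ι (x, x) * g⁻¹ = W.ι (y, y)) :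
    P.act ⟨g, T.cent_le hg⟩ (x : M) = y := by
  obtain ⟨a, ha, hax⟩ := W.diag x
  obtain ⟨c, hc, hcy⟩ := W.diag y
  rw [← hax, ← hcy, P.act_apply]
  refine congrArg P.q (Subtype.ext ?_)
  show g * (a : G) * g⁻¹ = c
  rw [ha, hc]
  exact h

variable (E : Facts V U S z)
include E

/-- The elements of 2-power order of `C_K(t)`. -/
theorem Kt_two {k : G} (hk : k ∈ T.Kt) {i : ℕ} (hi : k ^ 2 ^ i = 1) : k = 1 ∨ k = T.t := by
  have hone : ∀ {d : G}, d ∈ T.D → d ^ 2 ^ (i + 1) = 1 → d = 1 := fun {d} hd h => orderOf_eq_one_iff.mp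
    (Nat.eq_one_of_dvd_coprimes (Nat.Coprime.pow_right _ (Nat.coprime_two_right.mpr (T.odd_D hd))) dvd_rfl
      (orderOf_dvd_of_pow_eq_one h))
  rcases T.Kt_cases hk with h | h
  · exact Or.inl (hone h (by rw [pow_succ, pow_mul, hi, one_pow]))
  · refine Or.inr ?_
    have hkt : Commute k T.t := Subgroup.mem_centralizer_singleton_iff.mp hk.2
    have h1 := hone h (by
      rw [hkt.mul_pow, pow_succ, pow_mul, hi, one_pow, one_mul, mul_comm, pow_mul, pow_two, T.t_sq, one_pow])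
    rw [← T.t_inv]
    exact eq_inv_of_mul_eq_one_left h1

/-- The order of a 2-subgroup of `C(t)` is at most four times that of the inner automorphisms it induces. -/
theorem card_cent_le {R : Subgroup G} (hR : IsPGroup 2 R) (hc : ∀ r ∈ R, r * T.t = T.t * r) {B : ℕ}
    (hB : ∀ Q : Subgroup M, IsPGroup 2 Q →
      (∀ w ∈ Q, ∃ (r : G) (hr : r ∈ R), P.act ⟨r, T.cent_le (hc r hr)⟩ = MulAut.conj w) → Nat.card Q ≤ B) :
    Nat.card R ≤ 4 * B := by
  classical
  let α : R →* MulAut M := P.act.comp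
    (MonoidHom.mk' (fun r => (⟨(r : G), T.cent_le (hc r r.2)⟩ : P.N)) fun a c => Subtype.ext rfl)
  have hker : Nat.card α.ker ≤ 2 := by
    have hinj : Function.Injective fun p : α.ker => decide (((p : R) : G) = 1) := by
      intro p q hpq
      simp only [decide_eq_decide] at hpq
      have hcase : ∀ r : α.ker, ((r : R) : G) = 1 ∨ ((r : R) : G) = T.t := fun r => by
        obtain ⟨i, hi⟩ := hR (r : R)
        exact Kt_two (T := T) E ⟨P.mem_K_of_act (MonoidHom.mem_ker.mp r.2),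
          Subgroup.mem_centralizer_singleton_iff.mpr (hc _ (r : R).2)⟩
          (by simpa using congrArg Subtype.val hi)
      refine Subtype.ext (Subtype.ext ?_)
      rcases hcase p with h | h
      · rw [h, hpq.mp h]
      · rcases hcase q with h' | h'
        · rw [h', hpq.mpr h']
        · rw [h, h']
    simpa using Nat.card_le_card_of_injective _ hinj
  set Q : Subgroup M := α.range.comap MulAut.conj with hQ
  have hcinj : Function.Injective (MulAut.conj : M →* MulAut M) := fun a c h => E.tight.conj_inj h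
  have hQ2 : IsPGroup 2 Q :=
    (hR.of_surjective α.rangeRestrict α.rangeRestrict_surjective).comap_of_injective _ hcinj
  have hQB : Nat.card Q ≤ B := hB Q hQ2 fun w hw => by
    obtain ⟨r, hr⟩ := hw
    exact ⟨r, r.2, hr⟩
  -- at most two cosets of the inner automorphisms
  have hrange : Nat.card α.range ≤ 2 * Nat.card Q := by
    by_cases hout : ∃ x0 : α.range, IsOuterAut (x0 : MulAut M)
    · obtain ⟨x0, hx0⟩ := hout
      have key : ∀ x : α.range, ∃ q : Q, MulAut.conj (q : M) = x ∨ MulAut.conj (q : M) = x * x0 := by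
        intro x
        by_cases hi : IsOuterAut (x : MulAut M)
        · obtain ⟨w, hw⟩ := E.outer.out_two _ _ hi hx0
          exact ⟨⟨w, show MulAut.conj w ∈ α.range by rw [← hw]; exact α.range.mul_mem x.2 x0.2⟩, Or.inr hw.symm⟩
        · obtain ⟨w, hw⟩ := not_forall.mp hi
          rw [not_not] at hw
          exact ⟨⟨w, show MulAut.conj w ∈ α.range by rw [← hw]; exact x.2⟩, Or.inl hw.symm⟩
      choose q hq using key
      refine le_trans (Nat.card_le_card_of_injective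
        (fun x => (decide (MulAut.conj (q x : M) = x), q x)) fun x y h => ?_) (by simp)
      simp only [Prod.mk.injEq, decide_eq_decide] at h
      obtain ⟨h1, h2⟩ := h
      by_cases hx : MulAut.conj (q x : M) = x
      · exact Subtype.ext (hx.symm.trans ((congrArg (fun a : Q => MulAut.conj (a : M)) h2).trans (h1.mp hx)))
      · have hy : ¬ MulAut.conj (q y : M) = y := fun hy => hx (h1.mpr hy)
        have h3 := (hq x).resolve_left hx
        rw [h2, (hq y).resolve_left hy] at h3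
        exact Subtype.ext (mul_right_cancel h3.symm)
    · push Not at hout
      have key : ∀ x : α.range, ∃ q : Q, MulAut.conj (q : M) = x := fun x => by
        obtain ⟨w, hw⟩ := not_forall.mp (hout x)
        rw [not_not] at hw
        exact ⟨⟨w, show MulAut.conj w ∈ α.range by rw [← hw]; exact x.2⟩, hw.symm⟩
      choose q hq using key
      refine le_trans (Nat.card_le_card_of_injective q fun x y h => Subtype.ext ?_) (Nat.le_mul_of_pos_left _ two_pos)
      rw [← hq x, ← hq y, h]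
  rw [Subgroup.card_eq_card_quotient_mul_card_subgroup α.ker,
    Nat.card_congr (QuotientGroup.quotientKerEquivRange α).toEquiv]
  calc Nat.card α.range * Nat.card α.ker ≤ 2 * Nat.card Q * 2 := Nat.mul_le_mul hrange hker
    _ ≤ 4 * B := by omega

/-- A 2-subgroup of `C(t)` has order at most `2⁹`. -/
theorem card_cent_le_nine {R : Subgroup G} (hR : IsPGroup 2 R) (hc : ∀ r ∈ R, r * T.t = T.t * r) :
    Nat.card R ≤ 2 ^ 9 :=
  (card_cent_le E hR hc (B := 2 ^ 7) fun _ hQ _ => E.card_two_le hQ).trans (by norm_num)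

/-- `z₁`. -/
def z1 : G := W.ι (E.zS, 1)

/-- `z₂`. -/
def z2 : G := W.ι (1, E.zS)

/-- `z₁ z₂`. -/
def za : G := W.ι (E.zS, E.zS)

theorem z1_mem : W.z1 E ∈ W.T0 := ⟨_, rfl⟩

theorem z2_mem : W.z2 E ∈ W.T0 := ⟨_, rfl⟩

theorem za_mem : W.za E ∈ W.T0 := ⟨_, rfl⟩

theorem z1_mul_z2 : W.z1 E * W.z2 E = W.za E := by rw [z1, z2, za, ← map_mul]; simp

theorem t_z1 : T.t * W.z1 E * T.t = W.z2 E := W.flip _ _

theorem t_z2 : T.t * W.z2 E * T.t = W.z1 E := W.flip _ _

theorem t_za : T.t * W.za E * T.t = W.za E := W.flip _ _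

theorem z1_sq : W.z1 E * W.z1 E = 1 := by
  rw [z1, ← map_mul, Prod.mk_mul_mk, E.zS_sq, one_mul, ← Prod.one_eq_mk, map_one]

theorem z2_sq : W.z2 E * W.z2 E = 1 := by
  rw [z2, ← map_mul, Prod.mk_mul_mk, E.zS_sq, one_mul, ← Prod.one_eq_mk, map_one]

theorem za_sq : W.za E * W.za E = 1 := by
  rw [za, ← map_mul, Prod.mk_mul_mk, E.zS_sq, ← Prod.one_eq_mk, map_one]

theorem z1_ne_one : W.z1 E ≠ 1 := fun h => E.zS_ne (congrArg Prod.fst (W.inj (h.trans (map_one _).symm)))

theorem z2_ne_one : W.z2 E ≠ 1 := fun h => E.zS_ne (congrArg Prod.snd (W.inj (h.trans (map_one _).symm)))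

theorem za_ne_one : W.za E ≠ 1 := fun h => E.zS_ne (congrArg Prod.fst (W.inj (h.trans (map_one _).symm)))

theorem z1_ne_z2 : W.z1 E ≠ W.z2 E := fun h => E.zS_ne (congrArg Prod.fst (W.inj h))

theorem comm_T0 {g : G} (hg : g = W.z1 E ∨ g = W.z2 E ∨ g = W.za E) : ∀ h ∈ W.T0, h * g = g * h := by
  rintro h ⟨⟨p, q⟩, rfl⟩
  rcases hg with rfl | rfl | rfl <;>
    simp only [z1, z2, za, ← map_mul, Prod.mk_mul_mk, E.zS_comm, mul_one, one_mul]

theorem central {g : G} (hg : g ∈ W.T0) (hc : ∀ h ∈ W.T0, h * g = g * h) :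
    g = 1 ∨ g = W.z1 E ∨ g = W.z2 E ∨ g = W.za E := by
  obtain ⟨⟨x, y⟩, rfl⟩ := hg
  have h1 : ∀ p : S × S, p * (x, y) = (x, y) * p := fun p => W.inj (by
    rw [map_mul, map_mul]; exact hc _ ⟨p, rfl⟩)
  have hx : ∀ s : S, s * x = x * s := fun s => congrArg Prod.fst (h1 (s, 1))
  have hy : ∀ s : S, s * y = y * s := fun s => congrArg Prod.snd (h1 (1, s))
  rcases E.central_cases hx with rfl | rfl <;> rcases E.central_cases hy with rfl | rfl
  · left; rw [← Prod.one_eq_mk, map_one]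
  · right; right; left; rfl
  · right; left; rfl
  · right; right; right; rfl

/-- An involution of `T₀` is fused to a central one. -/
theorem fused_central {x y : S} (hx : x * x = 1) (hy : y * y = 1) (hne : ¬ (x = 1 ∧ y = 1)) :
    ∃ g ∈ StdWreath.res2 G, g * W.ι (x, y) * g⁻¹ = W.z1 E ∨ g * W.ι (x, y) * g⁻¹ = W.z2 E ∨
      g * W.ι (x, y) * g⁻¹ = W.za E := by
  obtain ⟨a, ha, hax⟩ := E.exists_rep hx
  obtain ⟨c, hc, hcy⟩ := E.exists_rep hy
  obtain ⟨g, hg, hge⟩ := W.fuse x y a c hx hy hax hcy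
  refine ⟨g, hg, ?_⟩
  rw [hge]
  rcases ha with rfl | rfl <;> rcases hc with rfl | rfl
  · exfalso
    refine hne ⟨?_, ?_⟩
    · obtain ⟨k, hk⟩ := isConj_iff.mp hax
      exact Subtype.ext (conj_eq_one_iff.mp hk)
    · obtain ⟨k, hk⟩ := isConj_iff.mp hcy
      exact Subtype.ext (conj_eq_one_iff.mp hk)
  · exact Or.inr (Or.inl rfl)
  · exact Or.inl rfl
  · exact Or.inr (Or.inr rfl)

theorem card_T0 : Nat.card W.T0 = 2 ^ 14 := by
  rw [T0, ← Nat.card_congr (MonoidHom.ofInjective W.inj).toEquiv, Nat.card_prod, E.syl.card_S]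
  norm_num

theorem T0_two : IsPGroup 2 W.T0 := by
  refine IsPGroup.of_surjective ?_ W.ι.rangeRestrict W.ι.rangeRestrict_surjective
  intro p
  obtain ⟨i, hi⟩ := E.one.S_two p.1
  obtain ⟨k, hk⟩ := E.one.S_two p.2
  refine ⟨i + k, Prod.ext ?_ ?_⟩
  · show p.1 ^ 2 ^ (i + k) = 1
    rw [pow_add, pow_mul, hi, one_pow]
  · show p.2 ^ 2 ^ (i + k) = 1
    rw [pow_add, mul_comm, pow_mul, hk, one_pow]

/-- No element commuting with all of `T₀` is a conjugate of `t`. -/
theorem not_conj_cent {g : G} (hc : ∀ h ∈ W.T0, h * (g * T.t * g⁻¹) = g * T.t * g⁻¹ * h) : False := by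
  have hle := card_cent_le_nine (T := T) E ((W.T0_two E).map (MulAut.conj g⁻¹).toMonoidHom) (by
    rintro r ⟨h, hh, rfl⟩
    show g⁻¹ * h * g⁻¹⁻¹ * T.t = T.t * (g⁻¹ * h * g⁻¹⁻¹)
    calc g⁻¹ * h * g⁻¹⁻¹ * T.t = g⁻¹ * (h * (g * T.t * g⁻¹)) * g := by group
      _ = g⁻¹ * (g * T.t * g⁻¹ * h) * g := by rw [hc h hh]
      _ = _ := by group)
  rw [Subgroup.card_map_of_injective (MulAut.conj g⁻¹).injective, W.card_T0 E] at hle
  norm_num at hle

/-- `t` is not conjugate into `T₀`. -/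
theorem not_conj_T0 (g : G) : g * T.t * g⁻¹ ∉ W.T0 := by
  rintro ⟨⟨x, y⟩, h⟩
  have hsq : ((x, y) : S × S) * (x, y) = 1 := W.inj (by
    rw [map_mul, map_one, h]
    calc g * T.t * g⁻¹ * (g * T.t * g⁻¹) = g * (T.t * T.t) * g⁻¹ := by group
      _ = 1 := by rw [T.t_sq]; group)
  have hne : ¬ (x = 1 ∧ y = 1) := fun h1 => by
    rw [h1.1, h1.2, ← Prod.one_eq_mk, map_one] at h
    have h2 : T.t = 1 := conj_eq_one_iff.mp h.symm
    have h3 := T.ord
    rw [h2, orderOf_one] at h3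
    exact absurd h3 (by norm_num)
  obtain ⟨k, -, hk⟩ := W.fused_central E (congrArg Prod.fst hsq) (congrArg Prod.snd hsq) hne
  have hk' : k * g * T.t * (k * g)⁻¹ = k * W.ι (x, y) * k⁻¹ := by rw [h]; group
  refine W.not_conj_cent E (g := k * g) fun h hh => ?_
  rw [hk']
  exact W.comm_T0 E hk h hh

theorem t_not_T0 : T.t ∉ W.T0 := fun h => W.not_conj_T0 E 1 (by simpa using h)

end Double

end Cfsg.Lib.StdOne
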