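import Cfsg.Agent.StdOne.Tight

/-!
A conjugate of the centraliser meeting the normaliser in an involution: inner action, Sylow order two, fusion.
-/

set_option autoImplicit false
set_option linter.unusedSectionVars false

open scoped commutatorElement

namespace Cfsg.Lib.StdOne

universe u v

namespace Comp

variable {G : Type u} {M : Type v} [Group G] [Group M] [Finite G] [Finite M] (P : Comp G M) {z : M}
  (F : TightFacts M z)

/-- Two involutions of `A` with the same image are equal. -/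
theorem eq_of_q {a b : P.A} (ha : orderOf (a : G) = 2) (hb : orderOf (b : G) = 2) (h : P.q a = P.q b) : a = b := by
  have hc : a⁻¹ * b ∈ Subgroup.center P.A := (P.ker _).mp (by rw [map_mul, map_inv, h, inv_mul_cancel])
  have hcomm : Commute (a : G) ((a⁻¹ * b : P.A) : G) := P.K_comm (P.center_le_K hc) a.2
  obtain ⟨j, hj⟩ := P.odd
  have h1 := P.center_pow hc
  rw [hj] at h1
  have h2 : ((a⁻¹ * b : P.A) : G) ^ 2 = 1 := by
    have h3 : ((a : G) * ((a⁻¹ * b : P.A) : G)) ^ 2 = 1 := by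
      rw [Subgroup.coe_mul, Subgroup.coe_inv, mul_inv_cancel_left, ← hb, pow_orderOf_eq_one]
    rwa [hcomm.mul_pow, ← ha, pow_orderOf_eq_one, one_mul, ha] at h3
  rw [pow_succ, pow_mul, h2, one_pow, one_mul, Subgroup.coe_mul, Subgroup.coe_inv, inv_mul_eq_one] at h1
  exact Subtype.ext h1

theorem act_congr {n n' : P.N} (h : (n : G) = n') : P.act n = P.act n' := by rw [Subtype.ext h]

/-- An element acting as an element of `A` differs from it by one of `K`. -/
theorem diff_mem_K {e : G} (he : e ∈ P.N) {a : P.A} (h : P.act ⟨e, he⟩ = MulAut.conj (P.q a)) :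
    (a : G)⁻¹ * e ∈ P.K := by
  refine P.mem_K_of_act (n := ⟨_, P.N.mul_mem (P.N.inv_mem (P.A_le_N a.2)) he⟩) ?_
  rw [show (⟨_, P.N.mul_mem (P.N.inv_mem (P.A_le_N a.2)) he⟩ : P.N) = ⟨a, P.A_le_N a.2⟩⁻¹ * ⟨e, he⟩ from rfl,
    map_mul, map_inv, h, P.act_A, inv_mul_cancel]

include F

section Pair

variable {g x : G} (hg : g ∉ P.N) (hx : x ∈ P.K) (hx2 : orderOf x = 2) (hu : g * x * g⁻¹ ∈ P.N) {a : P.A}
  (ha : orderOf (a : G) = 2) (hact : P.act ⟨g * x * g⁻¹, hu⟩ = MulAut.conj (P.q a))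

include hu ha hact in
theorem lift_comm {l : P.A} (hl : P.q l * P.q a = P.q a * P.q l) :
    (l : G) * (g * x * g⁻¹) = g * x * g⁻¹ * l := by
  have h1 := P.cent_lift ha hl
  have hk := P.K_comm (P.diff_mem_K hu hact) l.2
  calc (l : G) * (g * x * g⁻¹) = ((l : G) * a) * ((a : G)⁻¹ * (g * x * g⁻¹)) := by group
    _ = (a : G) * ((l : G) * ((a : G)⁻¹ * (g * x * g⁻¹))) := by rw [h1]; group
    _ = (a : G) * (((a : G)⁻¹ * (g * x * g⁻¹)) * l) := by rw [hk]
    _ = _ := by group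

include hx hx2 hu ha hact in
theorem lift_Nc {l : P.A} (hl : P.q l * P.q a = P.q a * P.q l) : (l : G) ∈ P.Nc g :=
  P.mem_Nc.mpr (P.cent_le_conj hx hx2 (P.lift_comm F hu ha hact hl))

include hg hx hx2 hu ha hact in
/-- `A` meets `g K g⁻¹` in the centre. -/
theorem q_Kc {l : P.A} (hl : (l : G) ∈ P.Kc g) : P.q l = 1 := by
  set w := P.q a with hw
  obtain ⟨k, hk⟩ := isConj_iff.mp (F.one w (P.orderOf_q ha))
  set J := (((P.Kc g).subgroupOf P.A).map P.q).map (MulAut.conj k).toMonoidHom with hJdef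
  have hJ : J = ⊥ := by
    refine F.no_odd J ?_ ?_
    · by_contra hcon
      haveI : Fact (Nat.Prime 2) := ⟨Nat.prime_two⟩
      rw [Nat.not_odd_iff_even, even_iff_two_dvd] at hcon
      obtain ⟨j, hj⟩ := exists_prime_orderOf_dvd_card' (G := J) 2 hcon
      obtain ⟨j, ⟨_, ⟨y, hy, rfl⟩, rfl⟩⟩ := j
      replace hj : orderOf (P.q y) = 2 := by
        rw [← hj, ← Subgroup.orderOf_coe]; exact ((MulAut.conj k).orderOf_eq _).symm
      obtain ⟨y', hy', -, hyo⟩ := P.exists_invol_in (L := P.Kc g) hj ⟨y, hy, rfl⟩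
      obtain ⟨k0, hk0, hk0y⟩ := hy'
      refine P.not_mem_conj F hg hk0 ?_ ((show g * k0 * g⁻¹ = (y' : G) from hk0y) ▸ y'.2)
      rw [← hyo, ← hk0y]; exact ((MulAut.conj g).orderOf_eq k0).symm
    · rintro c hc _ ⟨_, ⟨y, hy, rfl⟩, rfl⟩
      obtain ⟨l', hl'⟩ := P.surj (k⁻¹ * c * k)
      have hlN : (l' : G) ∈ P.Nc g := P.lift_Nc F hx hx2 hu ha hact (by
        rw [hl', ← hw]
        rw [← hk] at hc
        calc k⁻¹ * c * k * w = k⁻¹ * (c * (k * w * k⁻¹)) * k := by group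
          _ = k⁻¹ * (k * w * k⁻¹ * c) * k := by rw [hc]
          _ = _ := by group)
      refine ⟨P.q (l' * y * l'⁻¹), ⟨_, P.conj_Kc hlN hy, rfl⟩, ?_⟩
      show k * P.q (l' * y * l'⁻¹) * k⁻¹ = c * (k * P.q y * k⁻¹) * c⁻¹
      rw [map_mul, map_mul, map_inv, hl']; group
  have hmem : k * P.q l * k⁻¹ ∈ J := ⟨P.q l, ⟨l, hl, rfl⟩, rfl⟩
  rwa [hJ, Subgroup.mem_bot, mul_inv_eq_one, mul_eq_left] at hmem

include hg hx hx2 hu ha hact in
/-- Involutions of `K` act as inner automorphisms on the other side. -/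
theorem inner_back {y : G} (hy : y ∈ P.K) (hy2 : orderOf y = 2) (hyN : y ∈ P.Nc g) :
    ∃ w, P.actc g ⟨y, hyN⟩ = MulAut.conj w := by
  by_contra hcon
  push Not at hcon
  set τ := P.actc g ⟨y, hyN⟩ with hτ
  have hτ2 : τ * τ = 1 := by
    rw [hτ, ← map_mul, show (⟨y, hyN⟩ : P.Nc g) * ⟨y, hyN⟩ = 1 from Subtype.ext (sq_one hy2), map_one]
  set Hm := Subgroup.centralizer ({P.q a} : Set M) with hHm
  obtain ⟨k, hk⟩ := isConj_iff.mp (F.one _ (P.orderOf_q ha))
  have hmap : Hm.map (MulAut.conj k).toMonoidHom = Subgroup.centralizer ({z} : Set M) := by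
    ext m
    rw [Subgroup.mem_centralizer_singleton_iff, ← hk]
    constructor
    · rintro ⟨v, hv, rfl⟩
      have h1 := Subgroup.mem_centralizer_singleton_iff.mp hv
      show k * v * k⁻¹ * (k * P.q a * k⁻¹) = k * P.q a * k⁻¹ * (k * v * k⁻¹)
      calc k * v * k⁻¹ * (k * P.q a * k⁻¹) = k * (v * P.q a) * k⁻¹ := by group
        _ = k * (P.q a * v) * k⁻¹ := by rw [h1]
        _ = _ := by group
    · intro hm
      refine ⟨k⁻¹ * m * k, Subgroup.mem_centralizer_singleton_iff.mpr ?_, by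
        show k * (k⁻¹ * m * k) * k⁻¹ = m; group⟩
      calc k⁻¹ * m * k * P.q a = k⁻¹ * (m * (k * P.q a * k⁻¹)) * k := by group
        _ = k⁻¹ * (k * P.q a * k⁻¹ * m) * k := by rw [hm]
        _ = _ := by group
  have hinj : Function.Injective (MulAut.conj k).toMonoidHom := MulEquiv.injective _
  have hperf : ⁅Hm, Hm⁆ = Hm := Subgroup.map_injective hinj (by rw [Subgroup.map_commutator, hmap, F.perf])
  obtain ⟨L, ψ, -, -, -, -, hdvd⟩ := P.image_le_fix F (g := g) (Hm := Hm) (J := ⊥) hperf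
    (fun l hl => P.lift_Nc F hx hx2 hu ha hact (Subgroup.mem_centralizer_singleton_iff.mp hl))
    (fun l hl => P.q_Kc F hg hx hx2 hu ha hact hl) hy hyN τ rfl
  refine F.fix_small τ hτ2 hcon ?_
  rw [Subgroup.relIndex_bot_left] at hdvd
  rw [← hmap, Subgroup.card_map_of_injective hinj]
  exact dvd_mul_of_dvd_right (hdvd.trans (Subgroup.card_subgroup_dvd_card _)) 2

include hg hx hx2 hu ha hact in
/-- The elements of `g K g⁻¹` normalising `A` act trivially or as `a`. -/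
theorem act_cases {e : G} (he : e ∈ P.N) (heK : e ∈ P.Kc g) :
    P.act ⟨e, he⟩ = 1 ∨ P.act ⟨e, he⟩ = MulAut.conj (P.q a) := by
  obtain ⟨k, hk⟩ := isConj_iff.mp (F.one _ (P.orderOf_q ha))
  set α := P.act ⟨e, he⟩ with hα
  have hfix : ∀ m, m * P.q a = P.q a * m → α m = m := by
    intro m hm
    obtain ⟨l, rfl⟩ := P.surj m
    have hlN := P.lift_Nc F hx hx2 hu ha hact hm
    rw [hα, P.act_apply]
    have h1 : ((⟨e * l * e⁻¹, P.conj_A he l.2⟩ * l⁻¹ : P.A) : G) ∈ P.Kc g := by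
      simp only [Subgroup.coe_mul, Subgroup.coe_inv]
      rw [show e * (l : G) * e⁻¹ * (l : G)⁻¹ = e * ((l : G) * e⁻¹ * (l : G)⁻¹) by group]
      exact (P.Kc g).mul_mem heK (P.conj_Kc hlN ((P.Kc g).inv_mem heK))
    have h2 := P.q_Kc F hg hx hx2 hu ha hact h1
    rwa [map_mul, map_inv, mul_inv_eq_one] at h2
  have hfix' : ∀ m, m * z = z * m → (MulAut.conj k * α * (MulAut.conj k)⁻¹) m = m := by
    intro m hm
    rw [MulAut.mul_apply, MulAut.mul_apply, MulAut.conj_inv_apply, MulAut.conj_apply, hfix (k⁻¹ * m * k) (by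
      rw [← hk] at hm
      calc k⁻¹ * m * k * P.q a = k⁻¹ * (m * (k * P.q a * k⁻¹)) * k := by group
        _ = k⁻¹ * (k * P.q a * k⁻¹ * m) * k := by rw [hm]
        _ = _ := by group)]
    group
  rcases F.aut_cent _ hfix' with h | h
  · left
    calc α = (MulAut.conj k)⁻¹ * (MulAut.conj k * α * (MulAut.conj k)⁻¹) * MulAut.conj k := by group
      _ = 1 := by rw [h]; group
  · right
    calc α = (MulAut.conj k)⁻¹ * (MulAut.conj k * α * (MulAut.conj k)⁻¹) * MulAut.conj k := by group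
      _ = _ := by rw [h, ← hk, map_mul, map_mul, map_inv]; group

include hg hx hx2 hu ha hact in
/-- Sylow 2-subgroups of `K` have order at most 2 and `a u` is an involution of `K`. -/
theorem rank_one :
    (∀ R : Subgroup G, R ≤ P.K → IsPGroup 2 R → Nat.card R ≤ 2) ∧
      ((a : G) * (g * x * g⁻¹) ∈ P.K ∧ orderOf ((a : G) * (g * x * g⁻¹)) = 2) := by
  haveI : Fact (Nat.Prime 2) := ⟨Nat.prime_two⟩
  set u := g * x * g⁻¹ with hudef
  have huo : orderOf u = 2 := by rw [hudef, show g * x * g⁻¹ = MulAut.conj g x from rfl, MulEquiv.orderOf_eq, hx2]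
  have hai : (a : G)⁻¹ = a := inv_eq_of_mul_eq_one_right (sq_one ha)
  have hkK : (a : G) * u ∈ P.K := by
    have := P.diff_mem_K hu hact
    rwa [hai] at this
  set k := (a : G) * u with hkdef
  have huk : u = (a : G) * k := by rw [hkdef, ← mul_assoc, sq_one ha, one_mul]
  have hak : (a : G) * k = k * a := P.K_comm hkK a.2
  have hko : orderOf k = 2 := by
    refine orderOf_eq_prime ?_ fun h => ?_
    · calc k ^ 2 = ((a : G) * a) * (k * k) := by rw [sq_one ha, one_mul, pow_two]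
        _ = (a : G) * (a * k) * k := by group
        _ = (a : G) * (k * a) * k := by rw [hak]
        _ = u * u := by rw [huk]; group
        _ = 1 := sq_one huo
    · refine P.not_mem_conj F hg hx hx2 ?_
      rw [← hudef, huk, h, mul_one]; exact a.2
  refine ⟨?_, hkK, hko⟩
  have hku : k * u = u * k := by rw [huk, ← mul_assoc, ← hak, mul_assoc]
  have hkN : k ∈ P.Nc g := P.mem_Nc.mpr (P.cent_le_conj hx hx2 hku)
  obtain ⟨w, hw⟩ := P.inner_back F hg hx hx2 hu ha hact hkK hko hkN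
  have hk' : g⁻¹ * k * g⁻¹⁻¹ ∈ P.N := by rw [inv_inv]; exact P.mem_Nc.mp hkN
  have hg' : g⁻¹ ∉ P.N := fun h => hg (by simpa using P.N.inv_mem h)
  have hw' : P.act ⟨g⁻¹ * k * g⁻¹⁻¹, hk'⟩ = MulAut.conj w := by
    rw [← hw, P.actc_apply]
    exact P.act_congr (by simp)
  have hwo : orderOf w = 2 := by
    refine orderOf_eq_prime (F.conj_inj ?_) fun h => hg' (P.tight hkK hko (P.mem_K_of_act (n := ⟨_, hk'⟩) (by rw [hw', h, map_one])))
    rw [pow_two, map_mul, ← hw, ← map_mul, show (⟨k, hkN⟩ : P.Nc g) * ⟨k, hkN⟩ = 1 from Subtype.ext (sq_one hko),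
      map_one, map_one]
  obtain ⟨b, hb, hbw⟩ := P.exists_lift_invol hwo
  rw [← hbw] at hw'
  have hsmall : ∀ Q : Subgroup G, Q ≤ P.K → IsPGroup 2 Q → (∀ e ∈ Q, e * k = k * e) → Nat.card Q ≤ 2 := by
    intro Q hQK hQ hQk
    have hNc : ∀ e ∈ Q, g⁻¹ * e * g ∈ P.N := fun e he => P.cent_le_conj hx hx2 (show e * u = u * e by
      calc e * u = (e * a) * k := by rw [huk]; group
        _ = (a : G) * (e * k) := by rw [← P.K_comm (hQK he) a.2]; group
        _ = u * e := by rw [hQk e he, huk]; group)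
    let φ : Q →* MulAut M := P.act.comp (MonoidHom.mk' (fun e => (⟨g⁻¹ * e * g, hNc e e.2⟩ : P.N))
      fun e e' => Subtype.ext (by simp only [Subgroup.coe_mul]; group))
    have hinj : Function.Injective φ := by
      rw [← MonoidHom.ker_eq_bot_iff, eq_bot_iff]
      intro e he
      rw [Subgroup.mem_bot]
      have h1 : g⁻¹ * (e : G) * g ∈ P.K := P.mem_K_of_act (n := ⟨_, hNc e e.2⟩) (MonoidHom.mem_ker.mp he)
      have hmem : (e : G) ∈ P.K ⊓ P.K.map (MulAut.conj g).toMonoidHom := ⟨hQK e.2, P.mem_Kc.mpr h1⟩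
      obtain ⟨i, hi⟩ := hQ e
      have h2 := Subgroup.orderOf_dvd_natCard _ hmem
      rw [Subgroup.orderOf_coe] at h2
      exact orderOf_eq_one_iff.mp (Nat.eq_one_of_dvd_coprimes
        (Nat.Coprime.pow_right _ (Nat.coprime_two_right.mpr (P.std.2.1.2 g (by rwa [← P.N_eq])))) h2
        (orderOf_dvd_of_pow_eq_one hi))
    classical
    have hinj2 : Function.Injective fun e : Q => decide (φ e = 1) := by
      intro e e' h
      simp only [decide_eq_decide] at h
      refine hinj ?_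
      have hc : ∀ e : Q, φ e = 1 ∨ φ e = MulAut.conj (P.q b) := fun e =>
        P.act_cases F hg' hkK hko hk' hb hw' (hNc e e.2) (P.mem_Kc.mpr (by
          rw [show g⁻¹⁻¹ * (g⁻¹ * (e : G) * g) * g⁻¹ = (e : G) by group]; exact hQK e.2))
      rcases hc e with h1 | h1
      · rw [h1, h.mp h1]
      · rcases hc e' with h2 | h2
        · rw [h2, h.mpr h2]
        · rw [h1, h2]
    simpa using Nat.card_le_card_of_injective _ hinj2
  -- Sylow subgroups
  intro R hR hR2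
  obtain ⟨S, hS⟩ := (hR2.comap_subtype (H := R) (K := P.K)).exists_le_sylow
  have hk2 : IsPGroup 2 (Subgroup.zpowers (⟨k, hkK⟩ : P.K)) :=
    IsPGroup.of_card (n := 1) (by rw [Nat.card_zpowers, Subgroup.orderOf_mk, hko, pow_one])
  obtain ⟨S', hS'⟩ := hk2.exists_le_sylow
  have hcard : Nat.card S' ≤ 2 := by
    set T := (S' : Subgroup P.K).map P.K.subtype with hTdef
    have hT2 : IsPGroup 2 T := S'.isPGroup'.map _
    have hkT : k ∈ T := ⟨⟨k, hkK⟩, hS' (Subgroup.mem_zpowers _), rfl⟩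
    haveI : Nontrivial T := ⟨⟨⟨k, hkT⟩, 1, fun h => by
      rw [show k = 1 from congrArg Subtype.val h, orderOf_one] at hko; exact absurd hko (by norm_num)⟩⟩
    have := hT2.center_nontrivial
    obtain ⟨c, hc⟩ := exists_prime_orderOf_dvd_card' (G := Subgroup.center T) 2 (by
      obtain ⟨n, hn, hcard⟩ := (hT2.to_subgroup (Subgroup.center T)).nontrivial_iff_card.mp this
      rw [hcard]; exact dvd_pow_self 2 (by omega))
    have hc' : orderOf ((c : T) : G) = 2 := by rw [Subgroup.orderOf_coe, Subgroup.orderOf_coe, hc]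
    have hcc : ∀ e ∈ T, e * ((c : T) : G) = ((c : T) : G) * e := fun e he =>
      congrArg Subtype.val (Subgroup.mem_center_iff.mp c.2 ⟨e, he⟩)
    have hck : ((c : T) : G) = k := by
      set Q := T ⊓ Subgroup.centralizer ({k} : Set G)
      have h1 := hsmall Q (inf_le_left.trans (Subgroup.map_subtype_le _)) (hT2.to_le inf_le_left)
        fun e he => Subgroup.mem_centralizer_singleton_iff.mp he.2
      by_contra hne
      classical
      have h3 : ({1, k, ((c : T) : G)} : Finset G).card ≤ Nat.card Q := by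
        rw [← Nat.card_eq_finsetCard]
        refine Nat.card_le_card_of_injective (fun e => (⟨e, ?_⟩ : Q)) fun e e' h => Subtype.ext (congrArg Subtype.val h :)
        have he := e.2
        simp only [Finset.mem_insert, Finset.mem_singleton] at he
        rcases he with h | h | h <;> rw [h]
        · exact Q.one_mem
        · exact ⟨hkT, Subgroup.mem_centralizer_singleton_iff.mpr rfl⟩
        · exact ⟨(c : T).2, Subgroup.mem_centralizer_singleton_iff.mpr (hcc k hkT).symm⟩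
      have hk1 : (1 : G) ≠ k := fun h => by rw [← h, orderOf_one] at hko; exact absurd hko (by norm_num)
      have hc1 : (1 : G) ≠ ((c : T) : G) := fun h => by rw [← h, orderOf_one] at hc'; exact absurd hc' (by norm_num)
      rw [Finset.card_insert_of_notMem (by simp [hk1, hc1]), Finset.card_pair (Ne.symm hne)] at h3
      omega
    rw [← Subgroup.card_map_of_injective P.K.subtype_injective]
    exact hsmall T (Subgroup.map_subtype_le _) hT2 fun e he => by rw [← hck]; exact hcc e he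
  calc Nat.card R = Nat.card (R.subgroupOf P.K) := (Nat.card_congr (Subgroup.subgroupOfEquivOfLe hR).toEquiv).symm
    _ ≤ Nat.card (S : Subgroup P.K) := Nat.card_le_card_of_injective (Subgroup.inclusion hS) (Subgroup.inclusion_injective hS)
    _ = Nat.card (S' : Subgroup P.K) := by rw [Sylow.card_eq_multiplicity, Sylow.card_eq_multiplicity]
    _ ≤ 2 := hcard

end Pair

/-- An involution of another conjugate of `K` normalising `A` gives one acting as an element of `A`. -/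
theorem exists_inner {g x : G} (hg : g ∉ P.N) (hx : x ∈ P.K) (hx2 : orderOf x = 2) (hu : g * x * g⁻¹ ∈ P.N) :
    ∃ h : G, h ∉ P.N ∧ ∃ hh : h * x * h⁻¹ ∈ P.N, ∃ a : P.A, orderOf (a : G) = 2 ∧
      P.act ⟨h * x * h⁻¹, hh⟩ = MulAut.conj (P.q a) := by
  classical
  set u := g * x * g⁻¹ with hudef
  have huo : orderOf u = 2 := by rw [hudef, show g * x * g⁻¹ = MulAut.conj g x from rfl, MulEquiv.orderOf_eq, hx2]
  set τ := P.act ⟨u, hu⟩ with hτ
  have hτ2 : τ * τ = 1 := by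
    rw [hτ, ← map_mul, show (⟨u, hu⟩ : P.N) * ⟨u, hu⟩ = 1 from Subtype.ext (sq_one huo), map_one]
  by_cases hin : ∃ w, τ = MulAut.conj w
  · obtain ⟨w, hw⟩ := hin
    have hwo : orderOf w = 2 := orderOf_eq_prime (F.conj_inj (by rw [pow_two, map_mul, ← hw, hτ2, map_one]))
      fun h => hg (P.tight hx hx2 (P.mem_K_of_act (n := ⟨u, hu⟩) (by rw [← hτ, hw, h, map_one])))
    obtain ⟨a, ha, haw⟩ := P.exists_lift_invol hwo
    exact ⟨g, hg, hu, a, ha, by rw [← hτ, hw, haw]⟩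
  push Not at hin
  obtain ⟨a0, x0, ha0, hτa, hsw, hcl⟩ := F.outer_swap τ hτ2 hin
  obtain ⟨a, ha, rfl⟩ := P.exists_lift_invol ha0
  obtain ⟨x1, rfl⟩ := P.surj x0
  have hui : u⁻¹ = u := inv_eq_of_mul_eq_one_right (sq_one huo)
  have hua : u * (a : G) = a * u := by
    have h1 : (⟨u * a * u⁻¹, P.conj_A hu a.2⟩ : P.A) = a := by
      refine P.eq_of_q ?_ ha ?_
      · show orderOf (u * (a : G) * u⁻¹) = 2
        rw [show u * (a : G) * u⁻¹ = MulAut.conj u (a : G) from rfl, MulEquiv.orderOf_eq, ha]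
      · rw [← P.act_apply ⟨u, hu⟩, ← hτ, hτa]
    have h2 := congrArg Subtype.val h1
    calc u * (a : G) = u * (a : G) * u⁻¹ * u := by group
      _ = _ := by rw [show u * (a : G) * u⁻¹ = a from h2]
  set u' := (x1 : G) * u * (x1 : G)⁻¹ with hu'
  have huaN : u * (a : G) ∈ P.N := P.N.mul_mem hu (P.A_le_N a.2)
  have hu'N : u' ∈ P.N := P.N.mul_mem (P.N.mul_mem (P.A_le_N x1.2) hu) (P.N.inv_mem (P.A_le_N x1.2))
  set c := (u * (a : G))⁻¹ * u' with hc
  have hcA : c ∈ P.A := by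
    rw [show c = (a : G)⁻¹ * ((u⁻¹ * (x1 : G) * u⁻¹⁻¹) * (x1 : G)⁻¹) by rw [hc, hu']; group]
    exact P.A.mul_mem (P.A.inv_mem a.2) (P.A.mul_mem (P.conj_A (P.N.inv_mem hu) x1.2) (P.A.inv_mem x1.2))
  have hcK : c ∈ P.K := by
    refine P.mem_K_of_act (n := ⟨c, P.A_le_N hcA⟩) ?_
    rw [show (⟨c, P.A_le_N hcA⟩ : P.N) = (⟨u, hu⟩ * ⟨a, P.A_le_N a.2⟩)⁻¹ *
        (⟨x1, P.A_le_N x1.2⟩ * ⟨u, hu⟩ * ⟨x1, P.A_le_N x1.2⟩⁻¹) from rfl]
    simp only [map_mul, map_inv, P.act_A, ← hτ, hsw, inv_mul_cancel]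
  have hcZ : (⟨c, hcA⟩ : P.A) ∈ Subgroup.center P.A := (P.ker _).mp (P.q_eq_one_of_K hcK)
  have hu'2 : u' * u' = 1 := by
    calc u' * u' = (x1 : G) * (u * u) * (x1 : G)⁻¹ := by rw [hu']; group
      _ = 1 := by rw [sq_one huo]; group
  have hv2 : u * (a : G) * (u * a) = 1 := by
    calc u * (a : G) * (u * a) = u * ((a : G) * u) * a := by group
      _ = u * (u * a) * a := by rw [hua]
      _ = (u * u) * ((a : G) * a) := by group
      _ = 1 := by rw [sq_one huo, sq_one ha, one_mul]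
  have hu'eq : u' = u * (a : G) * c := by rw [hc, mul_inv_cancel_left]
  set v := u * (a : G) with hv
  have hvi : v⁻¹ = v := inv_eq_of_mul_eq_one_right hv2
  clear_value v
  have hinv : v * c * v⁻¹ = c⁻¹ := by
    rw [hvi]
    refine eq_inv_of_mul_eq_one_left ?_
    rw [← hu'2, hu'eq]; group
  obtain ⟨i, hi⟩ := P.odd
  have hcm : c ^ (2 * i + 1) = 1 := hi ▸ P.center_pow hcZ
  set d := c ^ (i + 1) with hd
  have hdd : d * d = c := by
    rw [hd, ← pow_add, show i + 1 + (i + 1) = (2 * i + 1) + 1 by ring, pow_succ, hcm, one_mul]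
  have hdA : d ∈ P.A := pow_mem hcA _
  have hdv : d * u' * d⁻¹ = v := by
    have h1 : v * d * v⁻¹ = d⁻¹ := by rw [hd, ← conj_pow, hinv, inv_pow]
    calc d * u' * d⁻¹ = d * (v * (d * d)) * d⁻¹ := by rw [hu'eq, hdd]
      _ = d * (v * d * v⁻¹) * v := by group
      _ = v := by rw [h1]; group
  set g2 := d * (x1 : G) * g with hg2
  have hvconj : g2 * x * g2⁻¹ = v := by rw [← hdv, hg2, hu', hudef]; group
  have hvi2 : v ∈ P.Kc g2 := ⟨x, hx, hvconj⟩
  have hg2N : g2 ∉ P.N := fun h => hg (by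
    have := P.N.mul_mem (P.N.inv_mem (P.N.mul_mem (P.A_le_N hdA) (P.A_le_N x1.2))) h
    rwa [hg2, inv_mul_cancel_left] at this)
  have hva : v * (a : G) = u := by rw [hv, mul_assoc, sq_one ha, mul_one]
  have hvu : v * u = u * v := by rw [hv, mul_assoc, ← hua, ← hv]
  have hav : (a : G) * v = v * a := by rw [hv, ← mul_assoc, ← hua, ← hv]
  have huK : u ∉ P.Kc g2 := by
    intro h
    have h1 : (a : G) ∈ P.Kc g2 := by
      have h2 := (P.Kc g2).mul_mem ((P.Kc g2).inv_mem hvi2) h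
      rwa [← hva, inv_mul_cancel_left] at h2
    obtain ⟨y, hy, hya⟩ := h1
    refine P.not_mem_conj F hg2N hy ?_ ((show g2 * y * g2⁻¹ = (a : G) from hya) ▸ a.2)
    rw [← ha, ← hya]; exact ((MulAut.conj g2).orderOf_eq y).symm
  set h := g2⁻¹ * g with hh
  have hhx : h * x * h⁻¹ = g2⁻¹ * u * g2 := by rw [hudef, hh]; group
  have hhN : h ∉ P.N := fun hN' => huK (P.mem_Kc.mpr (hhx ▸ P.conj_K hN' hx))
  have huN2 : u ∈ P.Nc g2 := P.mem_Nc.mpr (P.cent_le_conj hx hx2 (by rw [hvconj, hvu]))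
  have haN : (a : G) ∈ P.Nc g2 := P.mem_Nc.mpr (P.cent_le_conj hx hx2 (by rw [hvconj, hav]))
  -- elements commuting with `v` lift
  have hlift : ∀ m : M, τ (P.q a * m * (P.q a)⁻¹) = m → ∃ l : P.A, P.q l = m ∧ (l : G) * v = v * l := by
    intro m hm
    obtain ⟨l, rfl⟩ := P.surj m
    have hvN' : v ∈ P.N := hv ▸ huaN
    set e : P.A := l⁻¹ * ⟨v * l * v⁻¹, P.conj_A hvN' l.2⟩ with he
    have heZ : e ∈ Subgroup.center P.A := by
      refine (P.ker e).mp ?_
      rw [he, map_mul, map_inv, ← P.act_apply ⟨v, hvN'⟩,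
        P.act_congr (n' := ⟨u, hu⟩ * ⟨a, P.A_le_N a.2⟩) (show v = u * a from hv), map_mul, P.act_A, ← hτ,
        MulAut.mul_apply, MulAut.conj_apply, hm, inv_mul_cancel]
    have hle : v * (l : G) * v⁻¹ = (l : G) * e := by simp [he]
    have hinv' : v * (e : G) * v⁻¹ = (e : G)⁻¹ := by
      refine eq_inv_of_mul_eq_one_right ?_
      refine mul_left_cancel (a := (l : G)) ?_
      calc (l : G) * ((e : G) * (v * e * v⁻¹)) = (v * l * v⁻¹) * (v * e * v⁻¹) := by rw [← mul_assoc, hle]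
        _ = v * ((l : G) * e) * v⁻¹ := by group
        _ = (v * v) * l * (v⁻¹ * v⁻¹) := by rw [← hle]; group
        _ = _ := by rw [← mul_inv_rev, hv2]; group
    obtain ⟨j, hj⟩ := P.odd
    have hem : (e : G) ^ (2 * j + 1) = 1 := hj ▸ P.center_pow heZ
    have hee : (e : G) ^ (j + 1) * (e : G) ^ (j + 1) = e := by
      rw [← pow_add, show j + 1 + (j + 1) = (2 * j + 1) + 1 by ring, pow_succ, hem, one_mul]
    refine ⟨l * e ^ (j + 1), by rw [map_mul, map_pow, (P.ker e).mpr heZ, one_pow, mul_one], ?_⟩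
    have h1 : v * (e : G) ^ (j + 1) * v⁻¹ = ((e : G) ^ (j + 1))⁻¹ := by rw [← conj_pow, hinv', inv_pow]
    calc ((l * e ^ (j + 1) : P.A) : G) * v = (l : G) * ((e : G) ^ (j + 1) * (e : G) ^ (j + 1)) * ((e : G) ^ (j + 1))⁻¹ * v := by
          simp only [Subgroup.coe_mul, Subgroup.coe_pow]; group
      _ = (v * l * v⁻¹) * (v * (e : G) ^ (j + 1) * v⁻¹) * v := by rw [hee, hle, h1]
      _ = _ := by simp only [Subgroup.coe_mul, Subgroup.coe_pow]; group
  let Q : Subgroup M :=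
    { carrier := {w | ∃ l : P.A, ∃ hl : (l : G) ∈ P.Nc g2, P.q l = w ∧ ∃ w', P.actc g2 ⟨l, hl⟩ = MulAut.conj w'}
      one_mem' := ⟨1, (P.Nc g2).one_mem, map_one _, 1, by rw [map_one]; exact map_one (P.actc g2)⟩
      mul_mem' := by
        rintro _ _ ⟨l, hl, rfl, w, hw⟩ ⟨l', hl', rfl, w', hw'⟩
        exact ⟨l * l', (P.Nc g2).mul_mem hl hl', map_mul _ _ _, w * w', by rw [map_mul, ← hw, ← hw', ← map_mul]; rfl⟩
      inv_mem' := by
        rintro _ ⟨l, hl, rfl, w, hw⟩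
        exact ⟨l⁻¹, (P.Nc g2).inv_mem hl, map_inv _ _, w⁻¹, by rw [map_inv, ← hw, ← map_inv]; rfl⟩ }
  have hQ : P.q a ∈ Q := by
    refine (Subgroup.closure_le Q).mpr ?_ hcl
    rintro _ ⟨m, n, hm, hn, rfl⟩
    obtain ⟨l, rfl, hlv⟩ := hlift m hm
    obtain ⟨l', rfl, hlv'⟩ := hlift n hn
    have hmem : ∀ l : P.A, (l : G) * v = v * l → (l : G) ∈ P.Nc g2 := fun l hl =>
      P.mem_Nc.mpr (P.cent_le_conj hx hx2 (by rw [hvconj]; exact hl))
    obtain ⟨w, hw⟩ := F.out_comm (P.actc g2 ⟨l, hmem l hlv⟩) (P.actc g2 ⟨l', hmem l' hlv'⟩)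
    exact ⟨l * l' * l⁻¹ * l'⁻¹, (P.Nc g2).mul_mem ((P.Nc g2).mul_mem ((P.Nc g2).mul_mem (hmem l hlv) (hmem l' hlv'))
      ((P.Nc g2).inv_mem (hmem l hlv))) ((P.Nc g2).inv_mem (hmem l' hlv')), by simp [map_mul, map_inv], w,
      by rw [← hw, ← map_inv, ← map_inv, ← map_mul, ← map_mul, ← map_mul]; rfl⟩
  obtain ⟨l, hl, hlq, w, hw⟩ := hQ
  set e : P.A := l⁻¹ * a with he
  have heZ : e ∈ Subgroup.center P.A := (P.ker e).mp (by rw [he, map_mul, map_inv, hlq, inv_mul_cancel])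
  set m := Nat.card (Subgroup.center P.A) with hm
  obtain ⟨j, hj⟩ := P.odd
  have ham : (l : G) ^ m = a := by
    have hae : (a : G) = (l : G) * e := by simp [he]
    have h1 : (a : G) ^ m = a := by
      rw [hm, hj, pow_succ, pow_mul, ← ha, pow_orderOf_eq_one, one_pow, one_mul]
    rw [← h1, hae, (show Commute (l : G) (e : G) from P.K_comm (P.center_le_K heZ) l.2).mul_pow, hm,
      P.center_pow heZ, mul_one]
  have hain : P.actc g2 ⟨a, haN⟩ = MulAut.conj (w ^ m) := by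
    rw [show (⟨a, haN⟩ : P.Nc g2) = ⟨l, hl⟩ ^ m from Subtype.ext (by rw [Subgroup.coe_pow]; exact ham.symm),
      map_pow, hw, map_pow]
  have hh' : h * x * h⁻¹ ∈ P.N := hhx ▸ P.mem_Nc.mp huN2
  have hact : P.act ⟨h * x * h⁻¹, hh'⟩ = MulAut.conj (w ^ m) := by
    rw [P.act_congr (n' := ⟨g2⁻¹ * u * g2, P.mem_Nc.mp huN2⟩) hhx, ← P.actc_apply g2 ⟨u, huN2⟩,
      show (⟨u, huN2⟩ : P.Nc g2) = ⟨v, P.mem_Nc.mpr (P.cent_le_conj hx hx2 (by rw [hvconj]))⟩ * ⟨a, haN⟩ from Subtype.ext hva.symm,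
      map_mul, P.actc_Kc hvi2, one_mul, hain]
  have hho : orderOf (h * x * h⁻¹) = 2 := by
    rw [show h * x * h⁻¹ = MulAut.conj h x from rfl, MulEquiv.orderOf_eq, hx2]
  have hwo : orderOf (w ^ m) = 2 := orderOf_eq_prime (F.conj_inj (by
    rw [pow_two, map_mul, ← hact, ← map_mul,
      show (⟨_, hh'⟩ : P.N) * ⟨_, hh'⟩ = 1 from Subtype.ext (sq_one hho), map_one, map_one]))
    fun h1 => hhN (P.tight hx hx2 (P.mem_K_of_act (n := ⟨_, hh'⟩) (by rw [hact, h1, map_one])))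
  obtain ⟨b, hb, hbw⟩ := P.exists_lift_invol hwo
  exact ⟨h, hhN, hh', b, hb, by rw [hbw]; exact hact⟩

/-- The dichotomy's first case: rank one and fusion of the involution to its product with one of `A`. -/
theorem exists_fused {g x : G} (hg : g ∉ P.N) (hx : x ∈ P.K) (hx2 : orderOf x = 2) (hu : g * x * g⁻¹ ∈ P.N) :
    (∀ R : Subgroup G, R ≤ P.K → IsPGroup 2 R → Nat.card R ≤ 2) ∧
      ∃ t ∈ P.K, orderOf t = 2 ∧ ∃ a : P.A, orderOf (a : G) = 2 ∧ ∃ h : G, h * t * h⁻¹ = t * a := by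
  obtain ⟨h, hh, hhN, a, ha, hact⟩ := P.exists_inner F hg hx hx2 hu
  obtain ⟨hrank, hk, hko⟩ := P.rank_one F hh hx hx2 hhN ha hact
  refine ⟨hrank, _, hk, hko, a, ha, ?_⟩
  set t := (a : G) * (h * x * h⁻¹) with ht
  -- involutions of `K` are conjugate
  haveI : Fact (Nat.Prime 2) := ⟨Nat.prime_two⟩
  have hsyl : ∀ (y : G) (hy : y ∈ P.K), orderOf y = 2 → ∃ S : Sylow 2 P.K, (S : Subgroup P.K) = Subgroup.zpowers ⟨y, hy⟩ := by
    intro y hy hyo
    have h2 : IsPGroup 2 (Subgroup.zpowers (⟨y, hy⟩ : P.K)) :=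
      IsPGroup.of_card (n := 1) (by rw [Nat.card_zpowers, Subgroup.orderOf_mk, hyo, pow_one])
    obtain ⟨S, hS⟩ := h2.exists_le_sylow
    refine ⟨S, (Subgroup.eq_of_le_of_card_ge hS ?_).symm⟩
    rw [Nat.card_zpowers, Subgroup.orderOf_mk, hyo, ← Subgroup.card_map_of_injective P.K.subtype_injective]
    exact hrank _ (Subgroup.map_subtype_le _) (S.isPGroup'.map _)
  obtain ⟨S1, hS1⟩ := hsyl x hx hx2
  obtain ⟨S2, hS2⟩ := hsyl t hk hko
  obtain ⟨c, hc⟩ := MulAction.exists_smul_eq P.K S1 S2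
  have hmem : c * (⟨x, hx⟩ : P.K) * c⁻¹ ∈ (S2 : Subgroup P.K) := by
    rw [← hc, Sylow.coe_subgroup_smul]
    exact Subgroup.smul_mem_pointwise_smul _ _ _ (hS1 ▸ Subgroup.mem_zpowers _)
  have hcx : (c : G) * x * (c : G)⁻¹ = t := by
    rw [hS2] at hmem
    obtain ⟨i, hi⟩ := Subgroup.mem_zpowers_iff.mp hmem
    have hi' : t ^ i = (c : G) * x * (c : G)⁻¹ := by simpa using congrArg Subtype.val hi
    rcases Int.even_or_odd i with ⟨j, hj⟩ | ⟨j, hj⟩
    · exfalso
      rw [hj, ← two_mul, zpow_mul, zpow_two, sq_one hko, one_zpow, eq_comm, mul_inv_eq_one, mul_eq_left] at hi'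
      rw [hi', orderOf_one] at hx2
      exact absurd hx2 (by norm_num)
    · rw [← hi', hj, zpow_add_one, zpow_mul, zpow_two, sq_one hko, one_zpow, one_mul]
  refine ⟨h * (c : G)⁻¹, ?_⟩
  rw [← P.K_comm hk a.2]
  calc h * (c : G)⁻¹ * t * (h * (c : G)⁻¹)⁻¹ = h * x * h⁻¹ := by rw [← hcx]; group
    _ = _ := by rw [ht, ← mul_assoc, sq_one ha, one_mul]

end Comp

end Cfsg.Lib.StdOne
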