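import Cfsg.Agent.StdOne.Ctr
import Cfsg.Agent.StdWreath.Quot
import Cfsg.Agent.RuSylow.Aut

/-!
Translations over `V`: for every element `x` of the lift of `V` some element centralising the lift and the odd part
of `C_K(t)` moves `t` to `t x`.
-/

set_option autoImplicit false
set_option linter.unusedSectionVars false
set_option linter.style.haveILetI false

open scoped commutatorElement

namespace Cfsg.Lib.StdOne

universe u v

variable {G : Type u} {M : Type v} [Group G] [Group M]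

theorem OneFacts.z_ne {V U S : Subgroup M} {z : M} (O : OneFacts V U S z) : z ≠ 1 := fun h => by
  have := O.order_z; rw [h, orderOf_one] at this; omega

/-- Some element of `N(V)` moves a given non-trivial element of `V`. -/
theorem OneFacts.exists_move {V U S : Subgroup M} {z : M} [Finite M] (O : OneFacts V U S z) {x : M} (hx : x ∈ V)
    (hx1 : x ≠ 1) : ∃ n ∈ Subgroup.normalizer (V : Set M), n * x * n⁻¹ ≠ x := by
  classical
  by_contra hcon
  push Not at hcon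
  obtain ⟨k, hk, hkx⟩ := O.V_trans x hx hx1
  have hsub : ∀ y ∈ V, y = 1 ∨ y = x := fun y hy => by
    by_cases hy1 : y = 1
    · exact Or.inl hy1
    obtain ⟨l, hl, hly⟩ := O.V_trans y hy hy1
    refine Or.inr ?_
    rw [← hcon (l * k⁻¹) (Subgroup.mul_mem _ hl (Subgroup.inv_mem _ hk)), ← hly, ← hkx]
    group
  have h2 := Nat.card_le_card_of_injective (fun y : V => decide ((y : M) = 1)) (fun a c h => by
    simp only [decide_eq_decide] at h
    rcases hsub a a.2 with ha | ha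
    · exact Subtype.ext (ha.trans (h.mp ha).symm)
    · rcases hsub c c.2 with hc | hc
      · exact Subtype.ext ((h.mpr hc).trans hc.symm)
      · exact Subtype.ext (ha.trans hc.symm))
  rw [O.cardV] at h2
  simp at h2

namespace Ctr

variable [Finite G] [Finite M] {P : Comp G M} (T : Ctr P) {z : M} (F : TightFacts M z)

include F

/-- A fusing element fixing the lift of `z`. -/
theorem exists_fix (hfus : ∃ a : P.A, orderOf (a : G) = 2 ∧ ∃ h : G, h * T.t * h⁻¹ = T.t * a) :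
    ∃ z0 : P.A, orderOf (z0 : G) = 2 ∧ P.q z0 = z ∧
      ∃ h : G, h * T.t * h⁻¹ = T.t * z0 ∧ h * (z0 : G) * h⁻¹ = z0 := by
  obtain ⟨a, ha, h0, hh0⟩ := hfus
  obtain ⟨z0, hz0, hzq⟩ := P.exists_lift_invol F.order_z
  refine ⟨z0, hz0, hzq, ?_⟩
  have hconj : ∀ b : P.A, orderOf (b : G) = 2 → ∃ c : P.A, (c : G) * b * (c : G)⁻¹ = z0 := by
    intro b hb
    obtain ⟨k, hk⟩ := isConj_iff.mp (F.one _ (P.orderOf_q hb))
    obtain ⟨c, rfl⟩ := P.surj k
    refine ⟨c, congrArg (fun w : P.A => (w : G)) (P.eq_of_q (a := c * b * c⁻¹) ?_ hz0 ?_)⟩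
    · show orderOf ((c : G) * b * (c : G)⁻¹) = 2
      rw [show (c : G) * b * (c : G)⁻¹ = MulAut.conj (c : G) b from rfl, MulEquiv.orderOf_eq, hb]
    · rw [map_mul, map_mul, map_inv, hk, hzq]
  obtain ⟨c, hc⟩ := hconj a ha
  set h1 := (c : G) * h0 with hh1
  have h1t : h1 * T.t * h1⁻¹ = T.t * z0 := by
    calc h1 * T.t * h1⁻¹ = (c : G) * (h0 * T.t * h0⁻¹) * (c : G)⁻¹ := by rw [hh1]; group
      _ = (c : G) * T.t * a * (c : G)⁻¹ := by rw [hh0]; group
      _ = T.t * ((c : G) * a * (c : G)⁻¹) := by rw [T.t_comm c.2]; group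
      _ = _ := by rw [hc]
  set H0 := P.plift (Subgroup.centralizer ({z} : Set M)) with hH0
  have hz0H : (z0 : G) ∈ H0 := P.invol_mem_plift F.perf (Comp.sq_one hz0)
    (by rw [hzq]; exact Subgroup.mem_centralizer_singleton_iff.mpr rfl)
  set P0 := H0.map (MulAut.conj h1⁻¹).toMonoidHom with hP0
  have hP0A : P0 ≤ P.A := by
    refine T.perfect_le_A F ?_ ?_
    · rw [hP0, ← Subgroup.map_commutator, P.plift_perfect F.perf]
    · rintro _ ⟨p, hp, rfl⟩
      have hpz : p * (T.t * z0) = T.t * z0 * p := by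
        obtain ⟨y, hy, rfl⟩ := hp
        have hyq : P.q y ∈ Subgroup.centralizer ({z} : Set M) :=
          (show ⁅P.pre _, P.pre _⁆ ≤ P.pre _ from Subgroup.commutator_le_self _) hy
        have h1 : (y : G) * z0 = z0 * y := P.cent_lift hz0 (by
          rw [hzq]; exact Subgroup.mem_centralizer_singleton_iff.mp hyq)
        show (y : G) * (T.t * z0) = T.t * z0 * y
        rw [← mul_assoc, T.t_comm y.2, mul_assoc, h1, ← mul_assoc]
      have ht : T.t = h1⁻¹ * (T.t * z0) * h1 := by rw [← h1t]; group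
      show h1⁻¹ * p * h1⁻¹⁻¹ * T.t = T.t * (h1⁻¹ * p * h1⁻¹⁻¹)
      nth_rw 1 [ht]
      nth_rw 2 [ht]
      calc h1⁻¹ * p * h1⁻¹⁻¹ * (h1⁻¹ * (T.t * z0) * h1) = h1⁻¹ * (p * (T.t * z0)) * h1 := by group
        _ = h1⁻¹ * (T.t * z0 * p) * h1 := by rw [hpz]
        _ = _ := by group
  have ha' : h1⁻¹ * z0 * h1⁻¹⁻¹ ∈ P.A := hP0A ⟨z0, hz0H, rfl⟩
  obtain ⟨c2, hc2⟩ := hconj ⟨_, ha'⟩ (by
    show orderOf (MulAut.conj h1⁻¹ (z0 : G)) = 2
    rw [MulEquiv.orderOf_eq, hz0])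
  refine ⟨h1 * (c2 : G)⁻¹, ?_, ?_⟩
  · calc h1 * (c2 : G)⁻¹ * T.t * (h1 * (c2 : G)⁻¹)⁻¹ = h1 * ((c2 : G)⁻¹ * T.t * c2) * h1⁻¹ := by group
      _ = h1 * T.t * h1⁻¹ := by rw [T.t_comm (P.A.inv_mem c2.2)]; group
      _ = _ := h1t
  · nth_rw 1 [← hc2]
    simp only [inv_inv]
    group

variable {V U S : Subgroup M} (O : OneFacts V U S z)
include O

/-- An element normalising the lift of `V` and moving `t` inside its coset. -/
theorem exists_moved (hfus : ∃ a : P.A, orderOf (a : G) = 2 ∧ ∃ h : G, h * T.t * h⁻¹ = T.t * a) :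
    ∃ g : G, (∀ x ∈ P.lift V O.elemV, g * x * g⁻¹ ∈ P.lift V O.elemV) ∧
      ∃ x ∈ P.lift V O.elemV, x ≠ 1 ∧ g * T.t * g⁻¹ = T.t * x := by
  haveI : Fact (Nat.Prime 2) := ⟨Nat.prime_two⟩
  obtain ⟨z0, hz0, hzq, h, hht, hhz⟩ := T.exists_fix F hfus
  set Cz := Subgroup.centralizer ({z} : Set M) with hCz
  set H0 := P.plift Cz with hH0
  have hmem : ∀ y : P.A, (y : G) ∈ H0 → P.q y ∈ Cz := by
    rintro y ⟨y', hy', he⟩
    rw [← show y' = y from Subtype.ext he]
    exact (show ⁅P.pre Cz, P.pre Cz⁆ ≤ P.pre Cz from Subgroup.commutator_le_self _) hy'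
  have hz0t : ∀ y : P.A, P.q y ∈ Cz → (y : G) * z0 = z0 * y := fun y hy =>
    P.cent_lift hz0 (by rw [hzq]; exact Subgroup.mem_centralizer_singleton_iff.mp hy)
  -- `h` normalises `H0`
  have hnorm : h⁻¹ ∈ Subgroup.normalizer (H0 : Set G) := by
    refine StdWreath.mem_normalizer_of_conj_le ?_
    set P0 := H0.map (MulAut.conj h⁻¹).toMonoidHom with hP0
    have hperf : ⁅P0, P0⁆ = P0 := by rw [hP0, ← Subgroup.map_commutator, P.plift_perfect F.perf]
    have hcent : ∀ p ∈ P0, p * (z0 : G) = z0 * p ∧ p * T.t = T.t * p := by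
      rintro _ ⟨p, hp, rfl⟩
      have hpA : p ∈ P.A := P.plift_le _ hp
      have h1 : p * (z0 : G) = z0 * p := hz0t ⟨p, hpA⟩ (hmem ⟨p, hpA⟩ hp)
      have h2 : p * (T.t * z0) = T.t * z0 * p := by rw [← mul_assoc, T.t_comm hpA, mul_assoc, h1, ← mul_assoc]
      have key : ∀ b : G, p * b = b * p →
          h⁻¹ * p * h⁻¹⁻¹ * (h⁻¹ * b * h) = h⁻¹ * b * h * (h⁻¹ * p * h⁻¹⁻¹) := fun b hb => by
        calc h⁻¹ * p * h⁻¹⁻¹ * (h⁻¹ * b * h) = h⁻¹ * (p * b) * h := by group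
          _ = h⁻¹ * (b * p) * h := by rw [hb]
          _ = _ := by group
      refine ⟨?_, ?_⟩
      · have := key _ h1
        rwa [show h⁻¹ * (z0 : G) * h = z0 by nth_rw 1 [← hhz]; group] at this
      · have := key _ h2
        rwa [show h⁻¹ * (T.t * z0) * h = T.t by rw [← hht]; group] at this
    have hP0A : P0 ≤ P.A := T.perfect_le_A F hperf fun p hp => (hcent p hp).2
    have hle : P0 ≤ (P.pre Cz).map P.A.subtype := fun p hp => by
      refine ⟨⟨p, hP0A hp⟩, ?_, rfl⟩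
      show P.q ⟨p, hP0A hp⟩ ∈ Cz
      rw [hCz, Subgroup.mem_centralizer_singleton_iff, ← hzq, ← map_mul, ← map_mul]
      exact congrArg P.q (Subtype.ext (hcent p hp).1)
    have hP0H : P0 ≤ H0 := by
      rw [← hperf, hH0, Comp.plift, Subgroup.map_commutator]
      exact Subgroup.commutator_mono hle hle
    exact fun w hw => hP0H ⟨w, hw, rfl⟩
  -- a Sylow 2-subgroup of `H0` over `S`
  let f : H0 →* Cz := (P.q.comp (Subgroup.inclusion (P.plift_le Cz))).codRestrict Cz fun y => hmem _ y.2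
  have hf : Function.Surjective f := by
    rintro ⟨m, hm⟩
    obtain ⟨y, hy, rfl⟩ := P.plift_q F.perf hm
    exact ⟨⟨y, hy⟩, rfl⟩
  have hSC : S ≤ Cz := fun s hs =>
    Subgroup.mem_centralizer_singleton_iff.mpr (((O.center_S z).mpr (Or.inr rfl)).2 s hs)
  let S' : Sylow 2 Cz := (O.S_two.comap_subtype (H := S) (K := Cz)).toSylow
    (fun hd => O.S_sylow (hd.trans (Dvd.intro _ (Subgroup.relIndex_mul_index hSC))))
  obtain ⟨c, hc⟩ := MulAction.exists_smul_eq Cz ((default : Sylow 2 H0).mapSurjective hf) S'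
  obtain ⟨d, rfl⟩ := hf c
  set R := d • (default : Sylow 2 H0) with hR
  have hRS : (R : Subgroup H0).map f = S.subgroupOf Cz := by
    show _ = (S' : Subgroup Cz)
    rw [← hc, hR]
    simp only [Sylow.coe_subgroup_smul, Sylow.coe_mapSurjective]
    ext m
    simp only [Subgroup.mem_map, Subgroup.mem_pointwise_smul_iff_inv_smul_mem]
    constructor
    · rintro ⟨y, hy, rfl⟩
      exact ⟨_, hy, by simp [MulAut.smul_def]⟩
    · rintro ⟨y, hy, hym⟩
      refine ⟨d * y * d⁻¹, by simpa [MulAut.smul_def, mul_assoc] using hy, ?_⟩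
      rw [map_mul, map_mul, map_inv, hym]
      simp [MulAut.smul_def, mul_assoc]
  set RG := (R : Subgroup H0).map H0.subtype with hRG
  -- adjust `h` to normalise `RG`
  obtain ⟨d', hd'⟩ : ∃ d' : H0, ∀ r ∈ RG, (d' : G) * h * r * ((d' : G) * h)⁻¹ ∈ RG := by
    set R1 := RG.map (MulAut.conj h).toMonoidHom with hR1
    have hle : R1 ≤ H0 := by
      rintro _ ⟨r, hr, rfl⟩
      have hh : h ∈ Subgroup.normalizer (H0 : Set G) := by simpa using Subgroup.inv_mem _ hnorm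
      exact (Subgroup.mem_normalizer_iff.mp hh r).mp (Subgroup.map_subtype_le _ hr)
    have h2 : IsPGroup 2 R1 := (R.isPGroup'.map _).map _
    obtain ⟨Q, hQ⟩ := (h2.comap_subtype (H := R1) (K := H0)).exists_le_sylow
    obtain ⟨d', hd'⟩ := MulAction.exists_smul_eq H0 Q R
    refine ⟨d', fun r hr => ?_⟩
    have hm : (⟨h * r * h⁻¹, hle ⟨r, hr, rfl⟩⟩ : H0) ∈ (Q : Subgroup H0) := hQ ⟨r, hr, rfl⟩
    have h3 : d' * ⟨h * r * h⁻¹, hle ⟨r, hr, rfl⟩⟩ * d'⁻¹ ∈ (R : Subgroup H0) := by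
      rw [← hd', Sylow.coe_subgroup_smul]
      exact Subgroup.smul_mem_pointwise_smul _ _ _ hm
    refine ⟨_, h3, ?_⟩
    simp [mul_assoc]
  set h2 := (d' : G) * h with hh2
  have hd'A : (d' : G) ∈ P.A := P.plift_le _ d'.2
  have hd'z : (d' : G) * z0 = z0 * d' := hz0t ⟨d', hd'A⟩ (hmem _ d'.2)
  have h2z : h2 * (z0 : G) * h2⁻¹ = z0 := by
    calc h2 * (z0 : G) * h2⁻¹ = (d' : G) * (h * z0 * h⁻¹) * (d' : G)⁻¹ := by rw [hh2]; group
      _ = _ := by rw [hhz, hd'z, mul_inv_cancel_right]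
  have h2t : h2 * T.t * h2⁻¹ = T.t * z0 := by
    calc h2 * T.t * h2⁻¹ = (d' : G) * (h * T.t * h⁻¹) * (d' : G)⁻¹ := by rw [hh2]; group
      _ = _ := by rw [hht, ← mul_assoc, T.t_comm hd'A, mul_assoc T.t, hd'z]; group
  have hR2 : IsPGroup 2 RG := R.isPGroup'.map _
  have hRA : RG ≤ P.A := (Subgroup.map_subtype_le _).trans (P.plift_le _)
  have hqR : ∀ s ∈ S, ∃ r : P.A, (r : G) ∈ RG ∧ P.q r = s := by
    intro s hs
    obtain ⟨y, hy, hys⟩ : (⟨s, hSC hs⟩ : Cz) ∈ (R : Subgroup H0).map f := by rw [hRS]; exact hs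
    exact ⟨⟨y, P.plift_le _ y.2⟩, ⟨y, hy, rfl⟩, congrArg Subtype.val hys⟩
  have hliftR : ∀ x ∈ P.lift V O.elemV, x ∈ RG := by
    rintro _ ⟨x, rfl, hx, hxV⟩
    obtain ⟨r, hr, hrq⟩ := hqR _ (O.V_le hxV)
    have hrr : (r : G) * r = 1 := by
      have hc' : r * r ∈ Subgroup.center P.A := (P.ker _).mp (by
        rw [map_mul, hrq, ← map_mul, show x * x = 1 from Subtype.ext hx, map_one])
      obtain ⟨i, hi⟩ := hR2 ⟨(r : G) * r, RG.mul_mem hr hr⟩
      have hi' : ((r : G) * r) ^ 2 ^ i = 1 := congrArg Subtype.val hi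
      have hn : ((r : G) * r) ^ Nat.card (Subgroup.center P.A) = 1 := P.center_pow hc'
      have hg := pow_gcd_eq_one (a := (r : G) * r) (m := 2 ^ i) (n := Nat.card (Subgroup.center P.A))
      have hco : Nat.Coprime (2 ^ i) (Nat.card (Subgroup.center P.A)) :=
        Nat.Coprime.pow_left _ (Nat.coprime_two_left.mpr P.odd)
      have := hg.mpr ⟨hi', hn⟩
      rwa [hco.gcd_eq_one, pow_one] at this
    rwa [← P.q_invol_eq hrr hx hrq]
  -- the image of `V` under `h2` and a mover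
  set B1 := (P.lift V O.elemV).map (MulAut.conj h2).toMonoidHom with hB1
  have hB1R : B1 ≤ RG := by
    rintro _ ⟨x, hx, rfl⟩; exact hd' x (hliftR x hx)
  have hB1A : B1 ≤ P.A := hB1R.trans hRA
  have hB1sq : ∀ y ∈ B1, y * y = 1 := by
    rintro _ ⟨x, hx, rfl⟩
    rw [← map_mul, P.lift_sq O.elemV hx, map_one]
  set B := (B1.subgroupOf P.A).map P.q with hB
  have hBmem : ∀ y : P.A, (y : G) ∈ B1 → P.q y ∈ B := fun y hy => ⟨y, hy, rfl⟩
  have hBel : Cfsg.IsElementaryAbelian 2 B := by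
    refine ⟨⟨⟨fun a c => Subtype.ext ?_⟩⟩, ?_⟩
    · obtain ⟨y, hy, hya⟩ := a.2
      obtain ⟨w, hw, hwc⟩ := c.2
      show (a : M) * c = c * a
      rw [← hya, ← hwc, ← map_mul, ← map_mul]
      obtain ⟨y', hy', hye⟩ := hy
      obtain ⟨w', hw', hwe⟩ := hw
      refine congrArg P.q (Subtype.ext ?_)
      show (y : G) * w = w * y
      rw [show (y : G) = MulAut.conj h2 y' from hye.symm, show (w : G) = MulAut.conj h2 w' from hwe.symm,
        ← map_mul, ← map_mul]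
      exact congrArg _ (congrArg Subtype.val ((P.lift_elem O.elemV).1.is_comm.comm (⟨y', hy'⟩ : P.lift V O.elemV)
        ⟨w', hw'⟩))
    · rintro _ ⟨y, hy, rfl⟩
      rw [← map_pow, show y ^ 2 = 1 from Subtype.ext (by rw [Subgroup.coe_pow, pow_two]; exact hB1sq _ hy), map_one]
  have hBcard : Nat.card B = 16 := by
    rw [← Nat.card_congr (Equiv.ofBijective (fun a : B1.subgroupOf P.A => (⟨P.q a, hBmem a a.2⟩ : B))
      ⟨fun a c h => Subtype.ext (P.q_invol_eq (hB1sq _ a.2) (hB1sq _ c.2) (congrArg Subtype.val h)),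
        fun ⟨_, y, hy, rfl⟩ => ⟨⟨y, hy⟩, rfl⟩⟩), Nat.card_congr (Subgroup.subgroupOfEquivOfLe hB1A).toEquiv,
      hB1, Subgroup.card_map_of_injective (MulAut.conj h2).injective, P.lift_card O.elemV, O.cardV]
  have hzB : z ∈ B := by
    rw [← hzq]
    exact hBmem z0 ⟨z0, ⟨z0, rfl, Comp.sq_one hz0, by rw [hzq]; exact O.z_mem.2⟩, h2z⟩
  have hSB : S ≤ Subgroup.normalizer (B : Set M) := by
    intro s hs
    refine StdWreath.mem_normalizer_of_conj_le ?_
    rintro _ ⟨y, hy, rfl⟩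
    obtain ⟨r, hr, rfl⟩ := hqR s hs
    rw [← map_inv, ← map_mul, ← map_mul]
    refine hBmem _ ?_
    -- `r` normalises `B1` as `h2⁻¹ r h2` normalises the lift of `V`
    obtain ⟨x, hx, hxy⟩ := hy
    obtain ⟨i, hi⟩ : ∃ i, i ∈ RG ∧ h2 * i * h2⁻¹ = (r : G) := by
      obtain ⟨i, hi⟩ := Finite.surjective_of_injective (f := fun i : RG => (⟨h2 * i * h2⁻¹, hd' i i.2⟩ : RG))
        (fun a c h => Subtype.ext (mul_left_cancel (mul_right_cancel (congrArg Subtype.val h)))) ⟨r, hr⟩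
      exact ⟨i, i.2, congrArg Subtype.val hi⟩
    refine ⟨i * x * i⁻¹, ?_, ?_⟩
    · have hiA := hRA hi.1
      refine P.conj_lift O.elemV (l := ⟨i, hiA⟩) ?_ hx
      obtain ⟨y', hy', hye⟩ := hi.1
      have : P.q ⟨i, hiA⟩ ∈ S := by
        have h1 : f y' ∈ S.subgroupOf Cz := hRS ▸ Subgroup.mem_map_of_mem f hy'
        rw [show (⟨i, hiA⟩ : P.A) = Subgroup.inclusion (P.plift_le Cz) y' from Subtype.ext hye.symm]
        exact h1
      exact O.S_le_NV this
    · show h2 * (i * x * i⁻¹) * h2⁻¹ = (r : G) * y * (r : G)⁻¹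
      rw [← hi.2, show (y : G) = h2 * x * h2⁻¹ from hxy.symm]
      group
  obtain ⟨n, hn, hnz⟩ := O.moves_z B hBel hBcard hzB hSB
  obtain ⟨k, rfl⟩ := P.surj n
  have hliftB : ∀ y, y ∈ P.lift B hBel ↔ y ∈ B1 := by
    intro y
    constructor
    · rintro ⟨w, rfl, hw, hwB⟩
      obtain ⟨w', hw', hwq⟩ := hwB
      rwa [← P.q_invol_eq (hB1sq _ hw') hw hwq]
    · exact fun hy => ⟨⟨y, hB1A hy⟩, rfl, hB1sq y hy, hBmem _ hy⟩
  have hkB : ∀ y ∈ B1, (k : G) * y * (k : G)⁻¹ ∈ B1 := fun y hy =>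
    (hliftB _).mp (P.conj_lift hBel hn ((hliftB y).mpr hy))
  set g := h2⁻¹ * (k : G) * h2 with hg
  have hgV : ∀ x ∈ P.lift V O.elemV, g * x * g⁻¹ ∈ P.lift V O.elemV := by
    intro x hx
    obtain ⟨w, hw, hwe⟩ := hkB (h2 * x * h2⁻¹) ⟨x, hx, rfl⟩
    have hwe' : h2 * w * h2⁻¹ = (k : G) * (h2 * x * h2⁻¹) * (k : G)⁻¹ := hwe
    have : g * x * g⁻¹ = w := by
      calc g * x * g⁻¹ = h2⁻¹ * ((k : G) * (h2 * x * h2⁻¹) * (k : G)⁻¹) * h2 := by rw [hg]; group
        _ = w := by rw [← hwe']; group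
    rwa [this]
  have hz0B : (z0 : G) ∈ B1 := ⟨z0, ⟨z0, rfl, Comp.sq_one hz0, by rw [hzq]; exact O.z_mem.2⟩, h2z⟩
  obtain ⟨w, hw, hwe⟩ := hkB z0 hz0B
  have hwe' : h2 * w * h2⁻¹ = (k : G) * z0 * (k : G)⁻¹ := hwe
  have hz0V : (z0 : G) ∈ P.lift V O.elemV := ⟨z0, rfl, Comp.sq_one hz0, by rw [hzq]; exact O.z_mem.2⟩
  refine ⟨g, hgV, z0 * w, (P.lift V O.elemV).mul_mem hz0V hw, fun h1 => hnz ?_, ?_⟩
  · have hwz : w = z0 := by
      rw [← inv_eq_of_mul_eq_one_right h1]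
      exact inv_eq_of_mul_eq_one_right (Comp.sq_one hz0)
    rw [hwz, h2z] at hwe'
    rw [← hzq, ← map_inv, ← map_mul, ← map_mul]
    exact congrArg P.q (Subtype.ext hwe'.symm)
  · have hinv : h2⁻¹ * T.t * h2 = T.t * z0 := by
      have h3 : h2 * (T.t * z0) * h2⁻¹ = T.t := by
        calc h2 * (T.t * z0) * h2⁻¹ = h2 * T.t * h2⁻¹ * (h2 * z0 * h2⁻¹) := by group
          _ = _ := by rw [h2t, h2z, mul_assoc, Comp.sq_one hz0, mul_one]
      nth_rw 1 [← h3]
      group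
    calc g * T.t * g⁻¹ = h2⁻¹ * ((k : G) * (h2 * T.t * h2⁻¹) * (k : G)⁻¹) * h2 := by rw [hg]; group
      _ = h2⁻¹ * (T.t * ((k : G) * z0 * (k : G)⁻¹)) * h2 := by rw [h2t, ← mul_assoc (k : G), T.t_comm k.2]; group
      _ = (h2⁻¹ * T.t * h2) * (h2⁻¹ * (h2 * w * h2⁻¹) * h2) := by rw [hwe']; group
      _ = _ := by rw [hinv]; group

/-- An element centralising the lift of `V` and moving `t`. -/
theorem exists_shift (hfus : ∃ a : P.A, orderOf (a : G) = 2 ∧ ∃ h : G, h * T.t * h⁻¹ = T.t * a) :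
    ∃ g : G, (∀ y ∈ P.lift V O.elemV, g * y = y * g) ∧
      ∃ x ∈ P.lift V O.elemV, x ≠ 1 ∧ g * T.t * g⁻¹ = T.t * x := by
  classical
  set Vl := P.lift V O.elemV with hVl
  obtain ⟨g0, hg0V, x0, hx0, hx01, hg0t⟩ := T.exists_moved F O hfus
  -- the stabiliser of the coset
  let N0 : Subgroup G :=
    { carrier := {g | (∀ y ∈ Vl, g * y * g⁻¹ ∈ Vl) ∧ ∃ x ∈ Vl, g * T.t * g⁻¹ = T.t * x}
      one_mem' := ⟨fun y hy => by simpa using hy, 1, Vl.one_mem, by simp⟩
      mul_mem' := by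
        rintro g g' ⟨hg, x, hx, hgt⟩ ⟨hg', x', hx', hgt'⟩
        refine ⟨fun y hy => ?_, x * (g * x' * g⁻¹), Vl.mul_mem hx (hg x' hx'), ?_⟩
        · rw [show g * g' * y * (g * g')⁻¹ = g * (g' * y * g'⁻¹) * g⁻¹ by group]
          exact hg _ (hg' y hy)
        · calc g * g' * T.t * (g * g')⁻¹ = g * (g' * T.t * g'⁻¹) * g⁻¹ := by group
            _ = g * T.t * g⁻¹ * (g * x' * g⁻¹) := by rw [hgt']; group
            _ = _ := by rw [hgt, mul_assoc]
      inv_mem' := by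
        rintro g ⟨hg, x, hx, hgt⟩
        have hgn : g ∈ Subgroup.normalizer (Vl : Set G) := StdWreath.mem_normalizer_of_conj_le hg
        have hinv : ∀ y ∈ Vl, g⁻¹ * y * g⁻¹⁻¹ ∈ Vl := fun y hy =>
          (Subgroup.mem_normalizer_iff.mp (Subgroup.inv_mem _ hgn) y).mp hy
        refine ⟨hinv, (g⁻¹ * x * g⁻¹⁻¹)⁻¹, Vl.inv_mem (hinv x hx), ?_⟩
        calc g⁻¹ * T.t * g⁻¹⁻¹ = g⁻¹ * (T.t * x) * g * (g⁻¹ * x * g⁻¹⁻¹)⁻¹ := by group
          _ = _ := by rw [← hgt]; group }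
  have hstab : ∀ {l : P.A}, P.q l ∈ Subgroup.normalizer (V : Set M) → (l : G) ∈ N0 := fun {l} hl =>
    ⟨fun y hy => P.conj_lift O.elemV hl hy, 1, Vl.one_mem, by rw [mul_one, T.t_comm l.2, mul_inv_cancel_right]⟩
  -- conjugate translations
  have hspread : ∀ g ∈ N0, ∀ x ∈ Vl, x ≠ 1 → g * T.t * g⁻¹ = T.t * x → ∀ y ∈ Vl, y ≠ 1 →
      ∃ g' ∈ N0, g' * T.t * g'⁻¹ = T.t * y := by
    intro g hgN x hx hx1 hgt y hy hy1
    obtain ⟨xa, rfl, hxsq, hxV⟩ := hx
    obtain ⟨ya, rfl, hysq, hyV⟩ := hy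
    have hne : ∀ {w : P.A}, (w : G) * w = 1 → (w : G) ≠ 1 → P.q w ≠ 1 := fun {w} hw hw1 h => hw1
      (by rw [P.q_invol_eq hw (y := 1) (by simp) (by rw [h, map_one]), Subgroup.coe_one])
    obtain ⟨k, hk, hkx⟩ := O.V_trans _ hxV (hne hxsq hx1)
    obtain ⟨l, hl, hly⟩ := O.V_trans _ hyV (hne hysq hy1)
    obtain ⟨c, hc⟩ := P.surj (l * k⁻¹)
    have hcN : (c : G) ∈ N0 := hstab (by rw [hc]; exact Subgroup.mul_mem _ hl (Subgroup.inv_mem _ hk))
    refine ⟨(c : G) * g, N0.mul_mem hcN hgN, ?_⟩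
    have hcx : c * xa * c⁻¹ = ya := P.q_invol_eq
      (by
        simp only [Subgroup.coe_mul, Subgroup.coe_inv]
        calc (c : G) * xa * (c : G)⁻¹ * (c * xa * (c : G)⁻¹) = (c : G) * ((xa : G) * xa) * (c : G)⁻¹ := by group
          _ = 1 := by rw [hxsq]; group)
      hysq (by rw [map_mul, map_mul, map_inv, hc, ← hkx, ← hly]; group)
    calc (c : G) * g * T.t * ((c : G) * g)⁻¹ = (c : G) * (g * T.t * g⁻¹) * (c : G)⁻¹ := by group
      _ = T.t * ((c : G) * xa * (c : G)⁻¹) := by rw [hgt, ← mul_assoc, T.t_comm c.2]; group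
      _ = _ := by rw [← hcx]; rfl
  have hall : ∀ y ∈ Vl, ∃ g ∈ N0, g * T.t * g⁻¹ = T.t * y := fun y hy => by
    by_cases hy1 : y = 1
    · exact ⟨1, N0.one_mem, by simp [hy1]⟩
    · exact hspread g0 ⟨hg0V, x0, hx0, hg0t⟩ x0 hx0 hx01 hg0t y hy hy1
  -- the action on the lift
  have hN0n : N0 ≤ Subgroup.normalizer (Vl : Set G) := fun g hg => StdWreath.mem_normalizer_of_conj_le hg.1
  let φ : N0 →* MulAut Vl :=
    (Subgroup.normalizerMonoidHom Vl).comp (Subgroup.inclusion hN0n)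
  let St : Subgroup N0 := (Subgroup.centralizer ({T.t} : Set G)).subgroupOf N0
  have hSt : ∀ g : N0, g ∈ St ↔ (g : G) * T.t = T.t * g := fun g => Subgroup.mem_centralizer_singleton_iff
  have hker : ∀ g : N0, g ∈ φ.ker ↔ ∀ y ∈ Vl, (g : G) * y = y * g := by
    intro g
    constructor
    · intro hg y hy
      have h1 : (φ g) ⟨y, hy⟩ = (1 : MulAut Vl) ⟨y, hy⟩ := by rw [MonoidHom.mem_ker.mp hg]
      have h2 : (g : G) * y * (g : G)⁻¹ = y := congrArg Subtype.val h1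
      exact mul_inv_eq_iff_eq_mul.mp h2
    · intro hg
      refine MonoidHom.mem_ker.mpr (MulEquiv.ext fun y => Subtype.ext ?_)
      show (g : G) * y * (g : G)⁻¹ = y
      rw [hg y y.2, mul_inv_cancel_right]
  by_contra hcon
  push Not at hcon
  have hle : φ.ker ≤ St := fun g hg => (hSt g).mpr <| by
    obtain ⟨x, hx, hgt⟩ := g.2.2
    have hx1 : x = 1 := by
      by_contra hx1
      exact hcon g ((hker g).mp hg) x hx hx1 hgt
    rw [hx1, mul_one] at hgt
    exact mul_inv_eq_iff_eq_mul.mp hgt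
  have hidx : St.index = 16 := by
    rw [Subgroup.index, ← O.cardV, ← P.lift_card O.elemV, ← hVl]
    have hex : ∀ y : Vl, ∃ g : N0, (g : G) * T.t * (g : G)⁻¹ = T.t * y := fun y => by
      obtain ⟨g, hg, hgy⟩ := hall y y.2
      exact ⟨⟨g, hg⟩, hgy⟩
    choose rep hrep using hex
    refine (Nat.card_congr (Equiv.ofBijective (fun y : Vl => (QuotientGroup.mk (rep y) : N0 ⧸ St)) ⟨?_, ?_⟩)).symm
    · intro a c h
      have h' : ((rep a)⁻¹ * rep c) ∈ St := QuotientGroup.eq.mp h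
      have h2 := (hSt _).mp h'
      refine Subtype.ext (mul_left_cancel (a := T.t) ?_)
      rw [← hrep a, ← hrep c]
      simp only [Subgroup.coe_mul, Subgroup.coe_inv] at h2
      calc (rep a : G) * T.t * (rep a : G)⁻¹
          = (rep a : G) * (T.t * ((rep a : G)⁻¹ * rep c)) * (rep c : G)⁻¹ := by group
        _ = (rep a : G) * ((rep a : G)⁻¹ * rep c * T.t) * (rep c : G)⁻¹ := by rw [h2]
        _ = _ := by group
    · intro q
      obtain ⟨g, rfl⟩ := QuotientGroup.mk_surjective q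
      obtain ⟨x, hx, hgt⟩ := g.2.2
      refine ⟨⟨x, hx⟩, QuotientGroup.eq.mpr ((hSt _).mpr ?_)⟩
      simp only [Subgroup.coe_mul, Subgroup.coe_inv]
      have h2 : (rep ⟨x, hx⟩ : G) * T.t * (rep ⟨x, hx⟩ : G)⁻¹ = (g : G) * T.t * (g : G)⁻¹ := by rw [hrep, hgt]
      calc (rep ⟨x, hx⟩ : G)⁻¹ * g * T.t = (rep ⟨x, hx⟩ : G)⁻¹ * ((g : G) * T.t * (g : G)⁻¹) * g := by group
        _ = _ := by rw [← h2]; group
  have h16 : 16 * Nat.card (St.map φ) = Nat.card φ.range := by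
    have h1 : (St.map φ).subgroupOf φ.range = St.map φ.rangeRestrict := by
      ext y
      simp only [Subgroup.mem_subgroupOf, Subgroup.mem_map]
      exact ⟨fun ⟨g, hg, he⟩ => ⟨g, hg, Subtype.ext he⟩, fun ⟨g, hg, he⟩ => ⟨g, hg, congrArg Subtype.val he⟩⟩
    rw [← hidx, ← Subgroup.index_map_eq St φ.rangeRestrict_surjective (by rwa [MonoidHom.ker_rangeRestrict]),
      ← h1, mul_comm]
    have h2 := Subgroup.card_mul_index ((St.map φ).subgroupOf φ.range)
    rwa [Nat.card_congr (Subgroup.subgroupOfEquivOfLe (Subgroup.map_le_range φ St)).toEquiv] at h2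
  -- the image of `N(V)`
  set NV := Subgroup.normalizer (V : Set M) with hNV
  let Npre := P.pre NV
  let ψ : Npre →* MulAut Vl := φ.comp (MonoidHom.mk' (fun l => (⟨((l : P.A) : G), hstab l.2⟩ : N0))
    fun a c => Subtype.ext rfl)
  have hψSt : ψ.range ≤ St.map φ := by
    rintro _ ⟨l, rfl⟩
    exact ⟨⟨_, hstab l.2⟩, (hSt _).mpr (T.t_comm (l : P.A).2), rfl⟩
  have hi : V.relIndex NV ∣ Nat.card ψ.range := by
    let qN : Npre →* NV := (P.q.comp Npre.subtype).codRestrict NV fun l => l.2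
    have hqN : Function.Surjective qN := fun n => by
      obtain ⟨l, hl⟩ := P.surj (n : M)
      exact ⟨⟨l, show P.q l ∈ NV by rw [hl]; exact n.2⟩, Subtype.ext hl⟩
    have hk : ψ.ker ≤ (V.subgroupOf NV).comap qN := by
      intro l hl
      show P.q (l : P.A) ∈ V
      refine (SetLike.ext_iff.mp O.centralizer_V _).mp (Subgroup.mem_centralizer_iff.mpr fun m hm => ?_)
      obtain ⟨x, hx, hxq⟩ := P.exists_lift_sq (m := m) (by rw [← pow_two]; exact O.elemV.2 m hm)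
      have h1 := (hker ⟨_, hstab l.2⟩).mp hl x ⟨x, rfl, hx, hxq ▸ hm⟩
      rw [← hxq, ← map_mul, ← map_mul]
      exact congrArg P.q (Subtype.ext h1.symm)
    rw [← Subgroup.index_ker, Subgroup.relIndex, ← Subgroup.index_comap_of_surjective _ hqN]
    exact Subgroup.index_dvd_of_le hk
  have hdvd : 16 * V.relIndex NV ∣ 20160 := by
    refine (Nat.mul_dvd_mul_left 16 (hi.trans (Subgroup.card_dvd_of_le hψSt))).trans ?_
    rw [h16]
    refine (Subgroup.card_subgroup_dvd_card φ.range).trans ?_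
    haveI : IsMulCommutative Vl := (P.lift_elem O.elemV).1
    have h := Cfsg.Lib.RuSylow.card_mulAut_dvd (Q := Vl) (p := 2) (hexp := fun x => Subtype.ext (by
      rw [Subgroup.coe_pow, pow_two, P.lift_sq O.elemV x.2, Subgroup.coe_one])) (r := 4)
      (by rw [hVl, P.lift_card O.elemV, O.cardV]; rfl)
    simpa [Finset.prod_range_succ] using h
  exact O.NV_big hdvd

/-- Translations centralising the lift of `V` and `O(C_K(t))`. -/
theorem exists_trans (hfus : ∃ a : P.A, orderOf (a : G) = 2 ∧ ∃ h : G, h * T.t * h⁻¹ = T.t * a) :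
    ∀ x ∈ P.lift V O.elemV, ∃ g : G, (∀ y ∈ P.lift V O.elemV, g * y = y * g) ∧ (∀ d ∈ T.D, g * d = d * g) ∧
      g * T.t * g⁻¹ = T.t * x := by
  classical
  set Vl := P.lift V O.elemV with hVl
  obtain ⟨g, hgV, x, hx, hx1, hgt⟩ := T.exists_shift F O hfus
  -- `g` normalises `D`
  have hgD : ∀ d ∈ T.D, g⁻¹ * d * g ∈ T.D ∧ g * d * g⁻¹ ∈ T.D := by
    have key : ∀ e : G, e * T.t = T.t * e → (∀ y ∈ Vl, e * y = y * e) → Odd (orderOf e) → e ∈ T.D := by
      intro e het heV hodd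
      set α := P.act ⟨e, T.cent_le het⟩ with hα
      have hfix : ∀ m ∈ V, α m = m := by
        intro m hm
        obtain ⟨xa, hxs, rfl⟩ := P.exists_lift_sq (m := m) (by rw [← pow_two]; exact O.elemV.2 m hm)
        rw [hα, P.act_apply]
        refine congrArg P.q (Subtype.ext ?_)
        show e * (xa : G) * e⁻¹ = xa
        rw [heV xa ⟨xa, rfl, hxs, hm⟩, mul_inv_cancel_right]
      obtain ⟨w, hw⟩ := O.aut_V α fun m hm => by rw [hfix m hm]; exact hm
      have hwV : w ∈ V := (SetLike.ext_iff.mp O.centralizer_V w).mp (Subgroup.mem_centralizer_iff.mpr fun m hm => by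
        have h := hfix m hm
        rw [hw] at h
        exact (mul_inv_eq_iff_eq_mul.mp h).symm)
      obtain ⟨v, hv, hvq⟩ := P.exists_lift_sq (m := w) (by rw [← pow_two]; exact O.elemV.2 w hwV)
      obtain ⟨a, haq, hk⟩ := T.inner_split het (w := w) hw
      -- replace `a` by the involution lift
      have hc : v⁻¹ * a ∈ Subgroup.center P.A := (P.ker _).mp (by rw [map_mul, map_inv, hvq, haq, inv_mul_cancel])
      set k := (v : G)⁻¹ * e with hkdef
      have hkK : k ∈ T.Kt := by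
        have h2 : k = ((v⁻¹ * a : P.A) : G) * ((a : G)⁻¹ * e) := by
          simp only [hkdef, Subgroup.coe_mul, Subgroup.coe_inv]; group
        rw [h2]
        exact T.Kt.mul_mem (T.mem_D.mp (T.center_mem_D hc)).1 hk
      have hk2 : k * k ∈ T.D := by
        rcases T.Kt_cases hkK with h | h
        · exact T.D.mul_mem h h
        · have hkt : k * T.t = T.t * k := Subgroup.mem_centralizer_singleton_iff.mp hkK.2
          have := T.D.mul_mem h h
          rwa [show k * T.t * (k * T.t) = k * k by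
            rw [mul_assoc, ← mul_assoc T.t k, ← hkt, mul_assoc k T.t T.t, T.t_sq, mul_one]] at this
      have hvk : (v : G) * k = k * v := P.K_comm hkK.1 v.2
      have he2 : e * e = k * k := by
        have : e = (v : G) * k := by rw [hkdef, mul_inv_cancel_left]
        rw [this]
        calc (v : G) * k * (v * k) = (v : G) * (k * v) * k := by group
          _ = (v : G) * v * (k * k) := by rw [← hvk]; group
          _ = _ := by rw [hv, one_mul]
      obtain ⟨j, hj⟩ := hodd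
      have hee : e = (e * e) ^ (j + 1) := by
        rw [← pow_two, ← pow_mul, show 2 * (j + 1) = orderOf e + 1 by omega, pow_succ, pow_orderOf_eq_one, one_mul]
      rw [hee, he2]
      exact pow_mem hk2 _
    intro d hd
    have hdt := T.D_comm_t hd
    have hdV : ∀ y ∈ Vl, d * y = y * d := fun y hy => (P.K_comm (T.D_le_K hd) (P.lift_le O.elemV hy)).symm
    have hdx : d * (T.t * x) = T.t * x * d := by rw [← mul_assoc, hdt, mul_assoc, hdV x hx, ← mul_assoc]
    have hdo : Odd (orderOf d) := (T.mem_D.mp hd).2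
    have hgtx : g * (T.t * x) * g⁻¹ = T.t := by
      calc g * (T.t * x) * g⁻¹ = g * T.t * g⁻¹ * (g * x * g⁻¹) := by group
        _ = T.t * x * x := by rw [hgt, hgV x hx, mul_inv_cancel_right]
        _ = _ := by rw [mul_assoc, P.lift_sq O.elemV hx, mul_one]
    refine ⟨key _ ?_ (fun y hy => ?_) ?_, key _ ?_ (fun y hy => ?_) ?_⟩
    · calc g⁻¹ * d * g * T.t = g⁻¹ * (d * (g * T.t * g⁻¹)) * g := by group
        _ = g⁻¹ * (g * T.t * g⁻¹ * d) * g := by rw [hgt, hdx]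
        _ = _ := by group
    · calc g⁻¹ * d * g * y = g⁻¹ * d * (g * y) := by group
        _ = g⁻¹ * (d * y) * g := by rw [hgV y hy]; group
        _ = g⁻¹ * y * d * g := by rw [hdV y hy]; group
        _ = _ := by rw [(Commute.inv_left (show Commute g y from hgV y hy)).eq]; group
    · rw [show g⁻¹ * d * g = MulAut.conj g⁻¹ d by rw [MulAut.conj_apply, inv_inv], MulEquiv.orderOf_eq]; exact hdo
    · calc g * d * g⁻¹ * T.t = g * d * (g⁻¹ * T.t * g) * g⁻¹ := by group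
        _ = g * (d * (T.t * x)) * g⁻¹ := by
            rw [show g⁻¹ * T.t * g = T.t * x by nth_rw 1 [← hgtx]; group]; group
        _ = g * (T.t * x) * g⁻¹ * (g * d * g⁻¹) := by rw [hdx]; group
        _ = _ := by rw [hgtx]
    · calc g * d * g⁻¹ * y = g * d * (g⁻¹ * y) := by group
        _ = g * (d * y) * g⁻¹ := by rw [(Commute.inv_left (show Commute g y from hgV y hy)).eq]; group
        _ = g * y * d * g⁻¹ := by rw [hdV y hy]; group
        _ = _ := by rw [hgV y hy]; group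
    · rw [show g * d * g⁻¹ = MulAut.conj g d from rfl, MulEquiv.orderOf_eq]; exact hdo
  -- a commutator with `N(V)`
  obtain ⟨xa, hxa, hxs, hxV⟩ := hx
  have hxq1 : P.q xa ≠ 1 := fun h => hx1 (by
    rw [← hxa, P.q_invol_eq hxs (y := 1) (by simp) (by rw [h, map_one]), Subgroup.coe_one])
  obtain ⟨n, hn, hnx⟩ := O.exists_move hxV hxq1
  obtain ⟨l, hl⟩ := P.surj n
  have hlV : ∀ y ∈ Vl, (l : G) * y * (l : G)⁻¹ ∈ Vl := fun y hy => P.conj_lift O.elemV (hl ▸ hn) hy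
  have hlD : ∀ d ∈ T.D, (l : G) * d = d * l := fun d hd => P.K_comm (T.D_le_K hd) l.2
  set c := (l : G) * g * (l : G)⁻¹ * g⁻¹ with hc
  have hxx : x * x = 1 := hxa ▸ hxs
  have hlinv : ∀ y ∈ Vl, (l : G)⁻¹ * y * l ∈ Vl := fun y hy => by
    have := (Subgroup.mem_normalizer_iff''.mp (StdWreath.mem_normalizer_of_conj_le hlV) y).mp hy
    exact this
  have hcV : ∀ y ∈ Vl, c * y = y * c := by
    intro y hy
    have h1 : g⁻¹ * y = y * g⁻¹ := (Commute.inv_left (show Commute g y from hgV y hy)).eq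
    have h2 := hgV _ (hlinv y hy)
    calc c * y = (l : G) * g * (l : G)⁻¹ * (g⁻¹ * y) := by rw [hc]; group
      _ = (l : G) * (g * ((l : G)⁻¹ * y * l)) * (l : G)⁻¹ * g⁻¹ := by rw [h1]; group
      _ = _ := by rw [h2, hc]; group
  have hcD : ∀ d ∈ T.D, c * d = d * c := by
    intro d hd
    obtain ⟨h1, -⟩ := hgD d hd
    have h2 := hlD _ h1
    calc c * d = (l : G) * g * (l : G)⁻¹ * (g⁻¹ * d * g) * g⁻¹ := by rw [hc]; group
      _ = (l : G) * g * ((g⁻¹ * d * g) * (l : G)⁻¹) * g⁻¹ := by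
          rw [mul_assoc ((l : G) * g), (Commute.inv_left (show Commute (l : G) (g⁻¹ * d * g) from h2)).eq]
      _ = (l : G) * d * g * (l : G)⁻¹ * g⁻¹ := by group
      _ = _ := by rw [hlD d hd, hc]; group
  have hct : c * T.t * c⁻¹ = T.t * ((l : G) * x * (l : G)⁻¹ * x) := by
    have hg' : g⁻¹ * T.t * g = T.t * x := by
      have h3 : g * (T.t * x) * g⁻¹ = T.t := by
        calc g * (T.t * x) * g⁻¹ = g * T.t * g⁻¹ * (g * x * g⁻¹) := by group
          _ = T.t * (x * x) := by rw [hgt, hgV x ⟨xa, hxa, hxs, hxV⟩]; group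
          _ = _ := by rw [hxx, mul_one]
      nth_rw 1 [← h3]; group
    calc c * T.t * c⁻¹ = (l : G) * g * (l : G)⁻¹ * (g⁻¹ * T.t * g) * l * g⁻¹ * (l : G)⁻¹ := by rw [hc]; group
      _ = (l : G) * g * ((l : G)⁻¹ * T.t * x * l) * g⁻¹ * (l : G)⁻¹ := by rw [hg']; group
      _ = (l : G) * (g * T.t * g⁻¹ * (g * ((l : G)⁻¹ * x * l) * g⁻¹)) * (l : G)⁻¹ := by
          rw [T.t_comm (P.A.inv_mem l.2)]; group
      _ = (l : G) * T.t * x * ((l : G)⁻¹ * x * l) * (l : G)⁻¹ := by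
          rw [hgt, hgV _ (hlinv x ⟨xa, hxa, hxs, hxV⟩), mul_inv_cancel_right]; group
      _ = _ := by rw [T.t_comm l.2]; group
  set w := (l : G) * x * (l : G)⁻¹ * x with hw
  have hxV' : x ∈ Vl := ⟨xa, hxa, hxs, hxV⟩
  have hwV : w ∈ Vl := Vl.mul_mem (hlV x hxV') hxV'
  have hw1 : w ≠ 1 := fun h => hnx (by
    have h2 : (l : G) * x * (l : G)⁻¹ = x := by
      rw [← inv_eq_of_mul_eq_one_left h]; exact inv_eq_of_mul_eq_one_right hxx
    rw [← hxa] at h2
    rw [← hl, ← map_inv, ← map_mul, ← map_mul]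
    exact congrArg P.q (Subtype.ext h2))
  -- spread by `N(V)`
  intro y hy
  by_cases hy1 : y = 1
  · exact ⟨1, fun v _ => by simp, fun d _ => by simp, by simp [hy1]⟩
  obtain ⟨wa, hwa, hws, hwM⟩ := hwV
  obtain ⟨ya, hya, hys, hyM⟩ := hy
  obtain ⟨k1, hk1, hkw⟩ := O.V_trans _ hwM (fun h => hw1 (by
    rw [← hwa, P.q_invol_eq hws (y := 1) (by simp) (by rw [h, map_one]), Subgroup.coe_one]))
  obtain ⟨k2, hk2, hky⟩ := O.V_trans _ hyM (fun h => hy1 (by
    rw [← hya, P.q_invol_eq hys (y := 1) (by simp) (by rw [h, map_one]), Subgroup.coe_one]))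
  obtain ⟨m, hm⟩ := P.surj (k2 * k1⁻¹)
  have hmn : P.q m ∈ Subgroup.normalizer (V : Set M) := hm ▸ Subgroup.mul_mem _ hk2 (Subgroup.inv_mem _ hk1)
  have hmy : (m : G) * w * (m : G)⁻¹ = y := by
    rw [← hwa, ← hya]
    refine congrArg (fun v : P.A => (v : G)) (P.q_invol_eq (x := m * wa * m⁻¹) ?_ hys ?_)
    · simp only [Subgroup.coe_mul, Subgroup.coe_inv]
      calc (m : G) * wa * (m : G)⁻¹ * (m * wa * (m : G)⁻¹) = (m : G) * ((wa : G) * wa) * (m : G)⁻¹ := by group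
        _ = 1 := by rw [hws]; group
    · rw [map_mul, map_mul, map_inv, hm, ← hkw, ← hky]; group
  have hmV : ∀ v ∈ Vl, (m : G)⁻¹ * v * m ∈ Vl := fun v hv =>
    (Subgroup.mem_normalizer_iff''.mp (StdWreath.mem_normalizer_of_conj_le
      (fun v hv => P.conj_lift O.elemV hmn hv)) v).mp hv
  refine ⟨(m : G) * c * (m : G)⁻¹, fun v hv => ?_, fun d hd => ?_, ?_⟩
  · have h2 := hcV _ (hmV v hv)
    calc (m : G) * c * (m : G)⁻¹ * v = (m : G) * (c * ((m : G)⁻¹ * v * m)) * (m : G)⁻¹ := by group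
      _ = _ := by rw [h2]; group
  · have h1 : Commute (m : G) d := P.K_comm (T.D_le_K hd) m.2
    exact ((h1.mul_left (hcD d hd)).mul_left h1.inv_left).eq
  · calc (m : G) * c * (m : G)⁻¹ * T.t * ((m : G) * c * (m : G)⁻¹)⁻¹
        = (m : G) * (c * ((m : G)⁻¹ * T.t * m) * c⁻¹) * (m : G)⁻¹ := by group
      _ = (m : G) * (c * T.t * c⁻¹) * (m : G)⁻¹ := by rw [T.t_comm (P.A.inv_mem m.2)]; group
      _ = T.t * ((m : G) * w * (m : G)⁻¹) := by rw [hct, ← mul_assoc, T.t_comm m.2]; group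
      _ = _ := by rw [hmy]

end Ctr

end Cfsg.Lib.StdOne
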