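import Cfsg.Agent.StdOne.Dichot
import Cfsg.Agent.Components.GenFitting
import Cfsg.Agent.S0205

/-!
In an almost simple group the centraliser of the standard subgroup has an involution fused to its product with one
of the subgroup.
-/

set_option autoImplicit false
set_option linter.unusedSectionVars false
set_option linter.style.haveILetI false

namespace Cfsg.Lib.StdOne

universe u v

open Cfsg

section Almost

variable {G : Type u} [Group G] [Finite G] (hF : IsSimpleGroup ↥(generalizedFittingSubgroup G))
  (hna : ¬ IsMulCommutative ↥(generalizedFittingSubgroup G))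

include hF hna

theorem genFitting_le {N : Subgroup G} [N.Normal] (hN : N ≠ ⊥) : generalizedFittingSubgroup G ≤ N := by
  haveI := hF
  set E := generalizedFittingSubgroup G
  haveI : E.Characteristic := Subgroup.characteristic_iff_map_eq.mpr fun e => Cfsg.Lib.Components.genFitting_map_equiv e
  rcases (inferInstance : (N.subgroupOf E).Normal).eq_bot_or_eq_top with h | h
  · exfalso
    have hd : N ⊓ E = ⊥ := disjoint_iff.mp (Subgroup.subgroupOf_eq_bot.mp h)
    have hNE : N ≤ E := by
      refine le_trans ?_ Cfsg.Lib.Components.centralizer_genFitting_le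
      intro n hn
      refine Subgroup.mem_centralizer_iff.mpr fun e he => ?_
      have hmem : e * n * e⁻¹ * n⁻¹ ∈ N ⊓ E := by
        refine ⟨N.mul_mem ((inferInstance : N.Normal).conj_mem n hn e) (N.inv_mem hn), ?_⟩
        rw [show e * n * e⁻¹ * n⁻¹ = e * (n * e⁻¹ * n⁻¹) by group]
        exact E.mul_mem he ((inferInstance : E.Normal).conj_mem _ (E.inv_mem he) n)
      rw [hd, Subgroup.mem_bot, mul_inv_eq_one, mul_inv_eq_iff_eq_mul] at hmem
      exact hmem
    exact hN (by rwa [inf_eq_left.mpr hNE] at hd)
  · exact Subgroup.subgroupOf_eq_top.mp h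

theorem no_commuting_normal {x a : G} (hx : x ≠ 1) (ha : a ≠ 1)
    (h : ∀ g : G, x * (g * a * g⁻¹) = g * a * g⁻¹ * x) : False := by
  set N1 := Subgroup.normalClosure ({x} : Set G)
  set N2 := Subgroup.normalClosure ({a} : Set G)
  have hc : N1 ≤ Subgroup.centralizer (N2 : Set G) := by
    haveI : (Subgroup.centralizer (N2 : Set G)).Normal := inferInstance
    refine Subgroup.normalClosure_le_normal ?_
    intro v hv
    rw [Set.mem_singleton_iff.mp hv]
    refine Subgroup.mem_centralizer_iff.mpr fun w hw => ?_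
    let Q : Subgroup G := Subgroup.centralizer ({x} : Set G)
    have hle : N2 ≤ Q := (Subgroup.closure_le Q).mpr (by
      intro w hw
      rw [Group.mem_conjugatesOfSet_iff] at hw
      obtain ⟨b, hba, hb⟩ := hw
      rw [Set.mem_singleton_iff.mp hba] at hb
      obtain ⟨g, rfl⟩ := isConj_iff.mp hb
      exact Subgroup.mem_centralizer_singleton_iff.mpr (h g).symm)
    exact (Subgroup.mem_centralizer_singleton_iff.mp (hle hw))
  have h1 : generalizedFittingSubgroup G ≤ N1 := genFitting_le hF hna fun hb => hx (by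
    have := Subgroup.subset_normalClosure (s := ({x} : Set G)) rfl
    rwa [show Subgroup.normalClosure ({x} : Set G) = ⊥ from hb, SetLike.mem_coe, Subgroup.mem_bot] at this)
  have h2 : generalizedFittingSubgroup G ≤ N2 := genFitting_le hF hna fun hb => ha (by
    have := Subgroup.subset_normalClosure (s := ({a} : Set G)) rfl
    rwa [show Subgroup.normalClosure ({a} : Set G) = ⊥ from hb, SetLike.mem_coe, Subgroup.mem_bot] at this)
  exact hna ⟨⟨fun e f => Subtype.ext ((Subgroup.mem_centralizer_iff.mp (hc (h1 f.2)) e (h2 e.2)))⟩⟩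

theorem oddCore_eq_bot : oddCore G = ⊥ := by
  by_contra hne
  haveI : (oddCore G).Normal := inferInstance
  have hle := genFitting_le hF hna hne
  have hodd : Odd (Nat.card ↥(generalizedFittingSubgroup G)) :=
    (Cfsg.Lib.ZStarApps.odd_card_pPrimeCore (G := G)).of_dvd_nat (Subgroup.card_dvd_of_le hle)
  haveI := hF
  haveI := Cfsg.Agent.S0205.result hodd
  exact hna ⟨⟨fun a b => IsSimpleGroup.comm_iff_isSolvable.mpr inferInstance a b⟩⟩

end Almost

/-- In an almost simple group: rank one and fusion. -/
theorem Comp.exists_fusion {G : Type u} {M : Type v} [Group G] [Group M] [Finite G] [Finite M] (P : Comp G M) {z : M}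
    (F : TightFacts M z) (hF : IsSimpleGroup ↥(generalizedFittingSubgroup G))
    (hna : ¬ IsMulCommutative ↥(generalizedFittingSubgroup G)) :
    (∀ R : Subgroup G, R ≤ P.K → IsPGroup 2 R → Nat.card R ≤ 2) ∧
      ∃ t ∈ P.K, orderOf t = 2 ∧ ∃ a : P.A, orderOf (a : G) = 2 ∧ ∃ h : G, h * t * h⁻¹ = t * a := by
  by_cases hI : ∃ g : G, ∃ x ∈ P.K, orderOf x = 2 ∧ g * x * g⁻¹ ∈ P.N ∧ g ∉ P.N
  · obtain ⟨g, x, hx, hx2, hu, hg⟩ := hI
    exact P.exists_fused F hg hx hx2 hu
  push Not at hI
  obtain ⟨x, a, hx, ha, h⟩ := P.exists_commuting F (oddCore_eq_bot hF hna) hI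
  exfalso
  refine no_commuting_normal hF hna (fun h1 => ?_) (fun h1 => ?_) h
  · rw [h1, orderOf_one] at hx; exact absurd hx (by norm_num)
  · rw [h1, orderOf_one] at ha; exact absurd ha (by norm_num)

end Cfsg.Lib.StdOne
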