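import Cfsg.Agent.StdOne.Basic

/-!
When a conjugate of the centraliser meets the normaliser in an involution, the centraliser has Sylow 2-subgroups
of order 2 and its involution is fused to its product with one of `A`.
-/

set_option autoImplicit false
set_option linter.unusedSectionVars false

open scoped commutatorElement

namespace Cfsg.Lib.StdOne

universe u v

variable {G : Type u} {M : Type v} [Group G] [Group M]

theorem TightFacts.z_ne [Finite M] {z : M} (F : TightFacts M z) : z ≠ 1 := fun h => by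
  have := F.order_z
  rw [h, orderOf_one] at this
  exact absurd this (by norm_num)

theorem TightFacts.center [Finite M] {z : M} (F : TightFacts M z) : Subgroup.center M = ⊥ := by
  haveI := F.simple
  rcases (inferInstance : (Subgroup.center M).Normal).eq_bot_or_eq_top with h | h
  · exact h
  · exfalso
    refine F.z_ne (Subgroup.mem_bot.mp ?_)
    have hz : z ∈ Subgroup.centralizer ({z} : Set M) := Subgroup.mem_centralizer_singleton_iff.mpr rfl
    rw [← F.perf] at hz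
    refine (Subgroup.commutator_eq_bot_iff_le_centralizer.mpr ?_).le hz
    exact fun x _ => Subgroup.mem_centralizer_iff.mpr fun y _ => Subgroup.mem_center_iff.mp (h ▸ Subgroup.mem_top x) y

theorem TightFacts.conj_inj [Finite M] {z : M} (F : TightFacts M z) {a c : M}
    (h : MulAut.conj a = MulAut.conj c) : a = c := by
  have hm : c⁻¹ * a ∈ Subgroup.center M := Subgroup.mem_center_iff.mpr fun x => by
    have h1 : a * x * a⁻¹ = c * x * c⁻¹ := DFunLike.congr_fun h x
    calc x * (c⁻¹ * a) = c⁻¹ * (c * x * c⁻¹) * a := by group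
      _ = c⁻¹ * a * x := by rw [← h1]; group
  rw [F.center, Subgroup.mem_bot, inv_mul_eq_one] at hm
  exact hm.symm

/-- A proper subgroup of index two of a perfect group does not exist. -/
theorem relIndex_ne_two {H J : Subgroup M} (hH : ⁅H, H⁆ = H) : J.relIndex H ≠ 2 := by
  intro h
  have hle : H ≤ J := by
    rw [← hH, Subgroup.commutator_le]
    intro a ha c hc
    have h2 := fun (x y : H) => Subgroup.mul_mem_iff_of_index_two (H := J.subgroupOf H) h (a := x) (b := y)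
    have : (⟨a, ha⟩ : H) * ⟨c, hc⟩ * ⟨a, ha⟩⁻¹ * ⟨c, hc⟩⁻¹ ∈ J.subgroupOf H := by
      rw [h2, h2, h2, inv_mem_iff, inv_mem_iff]; tauto
    exact this
  rw [Subgroup.relIndex_eq_one.mpr hle] at h
  exact absurd h (by norm_num)

namespace Comp

variable (P : Comp G M)

theorem sq_one {x : G} (hx : orderOf x = 2) : x * x = 1 := by rw [← pow_two, ← hx, pow_orderOf_eq_one]

/-- The elements of `A` over an element of the image of `A ⊓ L` contain an involution if it is one. -/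
theorem exists_invol_in [Finite G] {L : Subgroup G} {m : M} (hm : orderOf m = 2)
    (h : ∃ y : P.A, (y : G) ∈ L ∧ P.q y = m) : ∃ y : P.A, (y : G) ∈ L ∧ P.q y = m ∧ orderOf (y : G) = 2 := by
  obtain ⟨x, hxL, rfl⟩ := h
  set k := Nat.card (Subgroup.center P.A)
  have h2 : P.q x ^ 2 = 1 := by rw [← hm, pow_orderOf_eq_one]
  have hq : P.q (x ^ k) = P.q x := by
    obtain ⟨j, hj⟩ := P.odd
    rw [map_pow, show k = 2 * j + 1 from hj, pow_succ, pow_mul, h2, one_pow, one_mul]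
  refine ⟨x ^ k, by rw [Subgroup.coe_pow]; exact pow_mem hxL _, hq, orderOf_eq_prime ?_ ?_⟩
  · have := P.center_pow ((P.ker (x ^ 2)).mp (by rw [map_pow, h2]))
    rw [Subgroup.coe_pow] at this ⊢
    rw [← pow_mul, mul_comm, pow_mul, this]
  · intro h
    rw [show x ^ k = 1 from Subtype.ext h, map_one] at hq
    rw [← hq, orderOf_one] at hm
    exact absurd hm (by norm_num)

/-- `g K g⁻¹`. -/
abbrev Kc (g : G) : Subgroup G := P.K.map (MulAut.conj g).toMonoidHom

/-- `g N g⁻¹`. -/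
abbrev Nc (g : G) : Subgroup G := P.N.map (MulAut.conj g).toMonoidHom

theorem mem_Kc {g y : G} : y ∈ P.Kc g ↔ g⁻¹ * y * g ∈ P.K := by
  constructor
  · rintro ⟨k, hk, rfl⟩
    show g⁻¹ * (g * k * g⁻¹) * g ∈ P.K
    rw [show g⁻¹ * (g * k * g⁻¹) * g = k by group]
    exact hk
  · exact fun h => ⟨_, h, by show g * (g⁻¹ * y * g) * g⁻¹ = y; group⟩

theorem mem_Nc {g y : G} : y ∈ P.Nc g ↔ g⁻¹ * y * g ∈ P.N := by
  constructor
  · rintro ⟨k, hk, rfl⟩
    show g⁻¹ * (g * k * g⁻¹) * g ∈ P.N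
    rw [show g⁻¹ * (g * k * g⁻¹) * g = k by group]
    exact hk
  · exact fun h => ⟨_, h, by show g * (g⁻¹ * y * g) * g⁻¹ = y; group⟩

theorem conj_Kc {g c y : G} (hc : c ∈ P.Nc g) (hy : y ∈ P.Kc g) : c * y * c⁻¹ ∈ P.Kc g := by
  rw [P.mem_Kc] at hy ⊢
  have := P.conj_K (P.mem_Nc.mp hc) hy
  convert this using 1; group

/-- The action on `M` of the normaliser of `g A g⁻¹`. -/
noncomputable def actc (g : G) : P.Nc g →* MulAut M :=
  P.act.comp (MonoidHom.mk' (fun n => (⟨g⁻¹ * n * g, P.mem_Nc.mp n.2⟩ : P.N))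
    fun n n' => Subtype.ext (by simp only [Subgroup.coe_mul]; group))

theorem actc_apply (g : G) (n : P.Nc g) : P.actc g n = P.act ⟨g⁻¹ * n * g, P.mem_Nc.mp n.2⟩ := rfl

theorem mem_Kc_of_actc {g : G} {n : P.Nc g} (h : P.actc g n = 1) : (n : G) ∈ P.Kc g :=
  P.mem_Kc.mpr (P.mem_K_of_act h)

theorem actc_Kc {g y : G} (hy : y ∈ P.Kc g) (hyN : y ∈ P.Nc g) : P.actc g ⟨y, hyN⟩ = 1 :=
  P.act_K (P.mem_Kc.mp hy)

variable [Finite G] [Finite M] {z : M} (F : TightFacts M z)
include F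

/-- The image in the normaliser of another conjugate of a perfect subgroup of `M`. -/
theorem image_le_fix {g : G} {Hm J : Subgroup M} (hH : ⁅Hm, Hm⁆ = Hm)
    (hL : ∀ l : P.A, P.q l ∈ Hm → (l : G) ∈ P.Nc g) (hJ : ∀ l : P.A, (l : G) ∈ P.Kc g → P.q l ∈ J)
    {y : G} (hyK : y ∈ P.K) (hyN : y ∈ P.Nc g) (τ : MulAut M) (hτ : P.actc g ⟨y, hyN⟩ = τ) :
    ∃ (L : Subgroup P.A) (ψ : L →* (τ.toMonoidHom.eqLocus (MonoidHom.id M))),
      ⁅L, L⁆ = L ∧ L.map P.q = Hm ∧ (∀ l : L, ψ l = 1 → ((l : P.A) : G) ∈ P.Kc g) ∧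
      (∀ l : L, ∀ h : ((l : P.A) : G) ∈ P.Nc g, P.actc g ⟨_, h⟩ = MulAut.conj (ψ l : M)) ∧
      J.relIndex Hm ∣ Nat.card ψ.range := by
  classical
  set L0 := Hm.comap P.q
  set L := ⁅L0, L0⁆ with hLdef
  have hmap : L.map P.q = Hm := by
    rw [hLdef, Subgroup.map_commutator, Subgroup.map_comap_eq_self_of_surjective P.surj, hH]
  have hle : L ≤ L0 := Subgroup.commutator_le_self L0
  have hperf : ⁅L, L⁆ = L := by
    refine le_antisymm (Subgroup.commutator_le_self L) ?_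
    nth_rw 1 [hLdef]
    rw [Subgroup.commutator_le]
    intro a ha c hc
    have hdec : ∀ w ∈ L0, ∃ l ∈ L, ∃ e ∈ Subgroup.center P.A, w = l * e := by
      intro w hw
      obtain ⟨l, hl, hlw⟩ := (hmap ▸ (hw : P.q w ∈ Hm) : P.q w ∈ L.map P.q)
      exact ⟨l, hl, l⁻¹ * w, (P.ker _).mp (by rw [map_mul, map_inv, hlw, inv_mul_cancel]), (mul_inv_cancel_left l w).symm⟩
    obtain ⟨l, hl, e, he, rfl⟩ := hdec a ha
    obtain ⟨l', hl', e', he', rfl⟩ := hdec c hc
    have he1 := Subgroup.mem_center_iff.mp he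
    have he2 := Subgroup.mem_center_iff.mp he'
    have : ⁅l * e, l' * e'⁆ = ⁅l, l'⁆ := by
      rw [commutatorElement_def, commutatorElement_def]
      calc l * e * (l' * e') * (l * e)⁻¹ * (l' * e')⁻¹ = l * (e * (l' * e')) * e⁻¹ * l⁻¹ * e'⁻¹ * l'⁻¹ := by group
        _ = l * ((l' * e') * e) * e⁻¹ * l⁻¹ * e'⁻¹ * l'⁻¹ := by rw [he1]
        _ = l * l' * (e' * l⁻¹) * e'⁻¹ * l'⁻¹ := by group
        _ = l * l' * (l⁻¹ * e') * e'⁻¹ * l'⁻¹ := by rw [he2]
        _ = _ := by group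
    rw [this]
    exact Subgroup.commutator_mem_commutator hl hl'
  have hN : ∀ l ∈ L0, ((l : P.A) : G) ∈ P.Nc g := fun l hl => hL l hl
  let φ : L0 →* MulAut M :=
    (P.actc g).comp (MonoidHom.mk' (fun l => (⟨((l : P.A) : G), hN l l.2⟩ : P.Nc g)) fun _ _ => rfl)
  have hinner : ∀ l : L, ∃ w : M, φ ⟨l, hle l.2⟩ = MulAut.conj w := by
    let I : Subgroup L0 := (MulAut.conj (G := M)).range.comap φ
    have hI : L.subgroupOf L0 ≤ I := by
      have h1 : ⁅(⊤ : Subgroup L0), ⊤⁆ ≤ I := by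
        rw [Subgroup.commutator_le]
        intro a _ c _
        obtain ⟨w, hw⟩ := F.out_comm (φ a) (φ c)
        exact ⟨w, by rw [commutatorElement_def, map_mul, map_mul, map_mul, map_inv, map_inv, hw]⟩
      refine le_trans ?_ h1
      rw [← Subgroup.map_le_map_iff_of_injective L0.subtype_injective, Subgroup.map_subgroupOf_eq_of_le hle,
        Subgroup.map_commutator, ← MonoidHom.range_eq_map, Subgroup.range_subtype]
    intro l
    obtain ⟨w, hw⟩ := hI (show (⟨l, hle l.2⟩ : L0) ∈ L.subgroupOf L0 from l.2)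
    exact ⟨w, hw.symm⟩
  choose f hf using hinner
  have hfix : ∀ l : L, τ (f l) = f l := by
    intro l
    have hc : (⟨y, hyN⟩ : P.Nc g) * ⟨_, hN l (hle l.2)⟩ = ⟨_, hN l (hle l.2)⟩ * ⟨y, hyN⟩ :=
      Subtype.ext (P.K_comm hyK (l : P.A).2).symm
    have h2 : τ * MulAut.conj (f l) = MulAut.conj (f l) * τ := by
      rw [← hf l, ← hτ]
      show P.actc g _ * P.actc g _ = P.actc g _ * P.actc g _
      rw [← map_mul, ← map_mul]
      exact congrArg _ hc
    refine F.conj_inj (MulEquiv.ext fun x => ?_)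
    have h3 := DFunLike.congr_fun h2 (τ⁻¹ x)
    simp only [MulAut.mul_apply, MulAut.conj_apply, map_mul, map_inv, MulAut.apply_inv_self] at h3
    exact h3
  let ψ : L →* (τ.toMonoidHom.eqLocus (MonoidHom.id M)) :=
    MonoidHom.mk' (fun l => ⟨f l, hfix l⟩) fun a c => Subtype.ext (F.conj_inj (by
      show MulAut.conj (f (a * c)) = MulAut.conj (f a * f c)
      rw [map_mul, ← hf, ← hf, ← hf, ← map_mul]
      rfl))
  refine ⟨L, ψ, hperf, hmap, fun l hl => ?_, fun l h => hf l, ?_⟩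
  · refine P.mem_Kc_of_actc (n := ⟨_, hN l (hle l.2)⟩) ?_
    show φ ⟨l, hle l.2⟩ = 1
    rw [hf, show f l = 1 from congrArg Subtype.val hl, map_one]
  let qL : L →* Hm := MonoidHom.mk' (fun l => ⟨P.q l, hmap ▸ Subgroup.mem_map_of_mem _ l.2⟩)
    fun a c => Subtype.ext (map_mul P.q _ _)
  have hsurj : Function.Surjective qL := fun h => by
    obtain ⟨l, hl, he⟩ := (show (h : M) ∈ L.map P.q by rw [hmap]; exact h.2)
    exact ⟨⟨l, hl⟩, Subtype.ext he⟩
  rw [Subgroup.relIndex, ← Subgroup.index_comap_of_surjective _ hsurj, ← Subgroup.index_ker ψ]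
  refine Subgroup.index_dvd_of_le fun l hl => ?_
  refine hJ l (P.mem_Kc_of_actc (n := ⟨_, hN l (hle l.2)⟩) ?_)
  show φ ⟨l, hle l.2⟩ = 1
  rw [hf, show f l = 1 from congrArg Subtype.val (MonoidHom.mem_ker.mp hl), map_one]

/-- No involution of `A` lies in another conjugate of `K`. -/
theorem not_mem_conj {g x : G} (hg : g ∉ P.N) (hx : x ∈ P.K) (hx2 : orderOf x = 2) :
    g * x * g⁻¹ ∉ P.A := by
  intro hj
  -- move to an involution over `z`
  have hjo : orderOf (g * x * g⁻¹) = 2 := by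
    rw [show g * x * g⁻¹ = MulAut.conj g x from rfl, MulEquiv.orderOf_eq, hx2]
  obtain ⟨k, hk⟩ := isConj_iff.mp (F.one _ (P.orderOf_q (a := ⟨_, hj⟩) hjo))
  obtain ⟨a0, rfl⟩ := P.surj k
  set g' := (a0 : G) * g with hg'
  have hg'N : g' ∉ P.N := fun h => hg (by
    have := P.N.mul_mem (P.N.inv_mem (P.A_le_N a0.2)) h
    rwa [hg', inv_mul_cancel_left] at this)
  have hj' : g' * x * g'⁻¹ ∈ P.A := by
    have := P.A.mul_mem (P.A.mul_mem a0.2 hj) (P.A.inv_mem a0.2)
    convert this using 1; rw [hg']; group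
  have hqz : P.q ⟨_, hj'⟩ = z := by
    rw [← hk, ← map_inv, ← map_mul, ← map_mul]
    exact congrArg P.q (Subtype.ext (by simp [hg', mul_assoc]))
  have hjK : g' * x * g'⁻¹ ∈ P.Kc g' := ⟨x, hx, rfl⟩
  have hjo' : orderOf (g' * x * g'⁻¹) = 2 := by
    rw [show g' * x * g'⁻¹ = MulAut.conj g' x from rfl, MulEquiv.orderOf_eq, hx2]
  have hcN : ∀ c, c * (g' * x * g'⁻¹) = g' * x * g'⁻¹ * c → c ∈ P.Nc g' := fun c hc =>
    P.mem_Nc.mpr (P.cent_le_conj hx hx2 hc)
  set J := ((P.Kc g').subgroupOf P.A).map P.q with hJdef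
  have hJm : ∀ l : P.A, (l : G) ∈ P.Kc g' → P.q l ∈ J := fun l hl => ⟨l, hl, rfl⟩
  have hnorm : ∀ j ∈ J, orderOf j = 2 → ∀ c, c * j = j * c → ∀ w ∈ J, c * w * c⁻¹ ∈ J := by
    intro j hjJ hjord c hc w hw
    obtain ⟨y, hy, rfl⟩ := hjJ
    obtain ⟨y', hy', hyq, hyo⟩ := P.exists_invol_in (L := P.Kc g') hjord ⟨y, hy, rfl⟩
    obtain ⟨l, rfl⟩ := P.surj c
    obtain ⟨v, hv, rfl⟩ := hw
    have hly : (l : G) * y' = y' * l := P.cent_lift hyo (by rw [hyq]; exact hc)
    obtain ⟨k0, hk0, hk0y⟩ := hy'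
    have hlN : (l : G) ∈ P.Nc g' := by
      refine P.mem_Nc.mpr (P.cent_le_conj hk0 ?_ (?_ : (l : G) * (g' * k0 * g'⁻¹) = g' * k0 * g'⁻¹ * l))
      · rw [← hyo, ← hk0y]; exact ((MulAut.conj g').orderOf_eq k0).symm
      · rw [show g' * k0 * g'⁻¹ = (y' : G) from hk0y]; exact hly
    exact ⟨l * v * l⁻¹, P.conj_Kc hlN hv, by rw [map_mul, map_mul, map_inv]⟩
  -- the involution `x` acts nontrivially on the other conjugate
  have hxN : x ∈ P.Nc g' := hcN x (P.K_comm hx hj').symm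
  set τ := P.actc g' ⟨x, hxN⟩ with hτdef
  have hτ2 : τ * τ = 1 := by
    rw [hτdef, ← map_mul, show (⟨x, hxN⟩ : P.Nc g') * ⟨x, hxN⟩ = 1 from Subtype.ext (sq_one hx2), map_one]
  have hτ1 : τ ≠ 1 := fun h => hg'N (by
    have h1 := P.tight hx hx2 (g := g'⁻¹) (by rw [inv_inv]; exact P.mem_Kc.mp (P.mem_Kc_of_actc h))
    simpa using P.N.inv_mem h1)
  have hzJ : z ∈ J := hqz ▸ hJm ⟨_, hj'⟩ hjK
  rcases F.big J hzJ hnorm with htop | hsmall | ⟨Hm, hHm, hHle, hbig⟩
  · -- `A` would lie in the conjugate, hence commute with that conjugate of `A`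
    have hAK : P.A ≤ P.Kc g' := by
      rw [← P.perfect, Subgroup.commutator_le]
      intro a ha c hc
      have hdec : ∀ w ∈ P.A, ∃ e ∈ P.Kc g', ∃ f : P.A, f ∈ Subgroup.center P.A ∧ w = e * f ∧ e ∈ P.A := by
        intro w hw
        obtain ⟨v, hv, he⟩ := (htop ▸ Subgroup.mem_top _ : P.q ⟨w, hw⟩ ∈ J)
        exact ⟨v, hv, v⁻¹ * ⟨w, hw⟩, (P.ker _).mp (by rw [map_mul, map_inv, he, inv_mul_cancel]), by simp, v.2⟩
      obtain ⟨e, he, f, hf, rfl, heA⟩ := hdec a ha
      obtain ⟨e', he', f', hf', rfl, heA'⟩ := hdec c hc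
      have hf1 : ∀ w ∈ P.A, w * (f : G) = f * w := fun w hw => P.K_comm (P.center_le_K hf) hw
      have hf2 : ∀ w ∈ P.A, w * (f' : G) = f' * w := fun w hw => P.K_comm (P.center_le_K hf') hw
      have : ⁅e * (f : G), e' * (f' : G)⁆ = ⁅e, e'⁆ := by
        rw [commutatorElement_def, commutatorElement_def]
        calc e * f * (e' * f') * (e * f)⁻¹ * (e' * f')⁻¹ = e * ((f : G) * (e' * f')) * (f : G)⁻¹ * e⁻¹ * (f' : G)⁻¹ * e'⁻¹ := by
              group
          _ = e * ((e' * f') * f) * (f : G)⁻¹ * e⁻¹ * (f' : G)⁻¹ * e'⁻¹ := by rw [hf1 _ (P.A.mul_mem heA' f'.2)]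
          _ = e * e' * ((f' : G) * e⁻¹) * (f' : G)⁻¹ * e'⁻¹ := by group
          _ = e * e' * (e⁻¹ * f') * (f' : G)⁻¹ * e'⁻¹ := by rw [hf2 _ (P.A.inv_mem heA)]
          _ = _ := by group
      rw [this, commutatorElement_def]
      exact (P.Kc g').mul_mem ((P.Kc g').mul_mem ((P.Kc g').mul_mem he he') ((P.Kc g').inv_mem he)) ((P.Kc g').inv_mem he')
    refine P.std.2.2.1 g' ?_ ?_
    · intro h
      refine hg'N (Subgroup.mem_normalizer_iff.mpr fun w => ?_)
      constructor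
      · intro hw; rw [← h]; exact ⟨w, hw, rfl⟩
      · intro hw
        rw [← h] at hw
        obtain ⟨v, hv, he⟩ := hw
        have : v = w := mul_left_cancel (mul_right_cancel (show g' * v * g'⁻¹ = g' * w * g'⁻¹ from he))
        exact this ▸ hv
    · rw [Subgroup.commutator_eq_bot_iff_le_centralizer]
      intro a ha
      refine Subgroup.mem_centralizer_iff.mpr ?_
      rintro _ ⟨v, hv, rfl⟩
      show g' * v * g'⁻¹ * a = a * (g' * v * g'⁻¹)
      calc g' * v * g'⁻¹ * a = g' * (v * (g'⁻¹ * a * g')) * g'⁻¹ := by group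
        _ = g' * (g'⁻¹ * a * g' * v) * g'⁻¹ := by rw [P.K_comm (P.mem_Kc.mp (hAK ha)) hv]
        _ = _ := by group
  · -- only `z`: the centraliser of `z` maps onto half of itself
    set Cz := Subgroup.centralizer ({z} : Set M)
    set Fx := τ.toMonoidHom.eqLocus (MonoidHom.id M)
    obtain ⟨L, ψ, hLp, hmap, hker, hψ, hdvd⟩ := P.image_le_fix F (g := g') (Hm := Cz) (J := J) F.perf
      (fun l hl => hcN l (P.cent_lift (a := ⟨_, hj'⟩) hjo' (by rw [hqz]; exact Subgroup.mem_centralizer_singleton_iff.mp hl)))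
      hJm hx hxN τ rfl
    have hrel : J.relIndex Cz * 2 = Nat.card Cz := by
      have h2 : Nat.card (J.subgroupOf Cz) = 2 := by
        rw [Nat.card_eq_two_iff]
        refine ⟨1, ⟨⟨z, Subgroup.mem_centralizer_singleton_iff.mpr rfl⟩, hzJ⟩, fun h => F.z_ne
          (congrArg (fun w : J.subgroupOf Cz => ((w : Cz) : M)) h).symm, ?_⟩
        refine Set.eq_univ_of_forall fun w => ?_
        rcases hsmall _ w.2 (Subgroup.mem_centralizer_singleton_iff.mp (w : Cz).2) with h | h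
        · exact Set.mem_insert_iff.mpr (Or.inl (Subtype.ext (Subtype.ext h)))
        · exact Set.mem_insert_iff.mpr (Or.inr (Subtype.ext (Subtype.ext h)))
      rw [← h2, Subgroup.relIndex, mul_comm, Subgroup.card_mul_index]
    have hFx : Nat.card Fx = Nat.card {m : M // τ m = m} := rfl
    by_cases hout : ∀ w, τ ≠ MulAut.conj w
    · refine F.fix_small τ hτ2 hout ?_
      rw [← hrel, mul_comm 2, ← hFx]
      exact Nat.mul_dvd_mul_right (hdvd.trans (Subgroup.card_subgroup_dvd_card _)) 2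
    push Not at hout
    obtain ⟨w, hw⟩ := hout
    have hwo : orderOf w = 2 := orderOf_eq_prime (by
      rw [pow_two]; exact F.conj_inj (by rw [map_mul, ← hw, hτ2, map_one])) fun h => hτ1 (by rw [hw, h, map_one])
    obtain ⟨c, hc⟩ := isConj_iff.mp (F.one w hwo)
    have hFeq : Fx = Cz.map (MulAut.conj c⁻¹).toMonoidHom := by
      ext m
      constructor
      · intro hm
        have hm' : w * m * w⁻¹ = m := by
          have h1 : τ m = m := hm
          rwa [hw] at h1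
        refine ⟨c * m * c⁻¹, Subgroup.mem_centralizer_singleton_iff.mpr ?_, by show c⁻¹ * (c * m * c⁻¹) * c⁻¹⁻¹ = m; group⟩
        rw [← hc]
        calc c * m * c⁻¹ * (c * w * c⁻¹) = c * (m * w) * c⁻¹ := by group
          _ = c * (w * m * w⁻¹ * w) * c⁻¹ := by rw [hm']
          _ = _ := by group
      · rintro ⟨m', hm', rfl⟩
        have h1 := Subgroup.mem_centralizer_singleton_iff.mp hm'
        rw [← hc] at h1
        show τ (c⁻¹ * m' * c⁻¹⁻¹) = c⁻¹ * m' * c⁻¹⁻¹
        rw [hw, MulAut.conj_apply]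
        calc w * (c⁻¹ * m' * c⁻¹⁻¹) * w⁻¹ = c⁻¹ * ((c * w * c⁻¹) * m') * c * w⁻¹ := by group
          _ = c⁻¹ * (m' * (c * w * c⁻¹)) * c * w⁻¹ := by rw [h1]
          _ = _ := by group
    have hperfF : ⁅Fx, Fx⁆ = Fx := by rw [hFeq, ← Subgroup.map_commutator, F.perf]
    have hcardF : Nat.card Fx = Nat.card Cz := by
      rw [hFeq, Subgroup.card_map_of_injective (MulEquiv.injective _)]
    have hidx : ψ.range.index ≠ 2 := fun h => by
      refine relIndex_ne_two hperfF (J := ψ.range.map Fx.subtype) ?_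
      rwa [Subgroup.relIndex, show (ψ.range.map Fx.subtype).subgroupOf Fx = ψ.range from
        Subgroup.comap_map_eq_self_of_injective Fx.subtype_injective _]
    have hmul : Nat.card ψ.range * ψ.range.index = Nat.card Cz := by rw [Subgroup.card_mul_index, hcardF]
    have hle2 : ψ.range.index ∣ 2 := by
      obtain ⟨d, hd⟩ := hdvd
      rw [← hrel, hd, mul_assoc] at hmul
      exact ⟨d, by rw [← mul_left_cancel₀ (Subgroup.index_ne_zero_of_finite) hmul, mul_comm]⟩
    have hone : ψ.range.index = 1 := ((Nat.dvd_prime Nat.prime_two).mp hle2).resolve_right hidx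
    rw [hone, mul_one] at hmul
    -- but the kernel has an element over `z`
    have hmulL : Nat.card ψ.ker * Nat.card ψ.range = Nat.card L := by
      rw [← Subgroup.index_ker, Subgroup.card_mul_index]
    let qL : L →* M := P.q.comp L.subtype
    have hqr : qL.range = Cz := by
      rw [MonoidHom.range_comp, Subgroup.range_subtype, hmap]
    have hmulq : Nat.card qL.ker * Nat.card Cz = Nat.card L := by
      rw [← hqr, ← Subgroup.index_ker, Subgroup.card_mul_index]
    rw [hmul, ← hmulq] at hmulL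
    have hkk := Nat.eq_of_mul_eq_mul_right Nat.card_pos hmulL
    have hoddk : Odd (Nat.card qL.ker) := by
      refine Odd.of_dvd_nat P.odd ?_
      rw [← Subgroup.card_map_of_injective L.subtype_injective]
      refine Subgroup.card_dvd_of_le ?_
      rintro _ ⟨l, hl, rfl⟩
      exact (P.ker _).mp hl
    obtain ⟨l, hlL, hlz⟩ := (hmap ▸ Subgroup.mem_centralizer_singleton_iff.mpr rfl : z ∈ L.map P.q)
    set m := Nat.card (Subgroup.center P.A) with hmdef
    have hcz : (⟨_, hj'⟩ : P.A)⁻¹ * l ∈ Subgroup.center P.A := (P.ker _).mp (by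
      rw [map_mul, map_inv, hqz, hlz, inv_mul_cancel])
    have hlm : ((l ^ m : P.A) : G) = g' * x * g'⁻¹ := by
      set e := (⟨_, hj'⟩ : P.A)⁻¹ * l
      have hl2 : (l : G) = g' * x * g'⁻¹ * e := by
        simp only [e, Subgroup.coe_mul, Subgroup.coe_inv, mul_inv_cancel_left]
      rw [Subgroup.coe_pow, hl2,
        (show Commute (g' * x * g'⁻¹) (e : G) from P.K_comm (P.center_le_K hcz) hj').mul_pow, P.center_pow hcz, mul_one]
      obtain ⟨i, hi⟩ := P.odd
      rw [show m = 2 * i + 1 from hi, pow_succ, pow_mul, ← hjo', pow_orderOf_eq_one, one_pow, one_mul]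
    have hψ1 : ψ (⟨l, hlL⟩ ^ m) = 1 := by
      have hN' : ((l ^ m : P.A) : G) ∈ P.Nc g' := by rw [hlm]; exact hcN _ rfl
      refine Subtype.ext (F.conj_inj ?_)
      rw [← hψ (⟨l, hlL⟩ ^ m) hN', P.actc_Kc (by rw [show ((((⟨l, hlL⟩ : L) ^ m : L) : P.A) : G) = _ from hlm]; exact hjK),
        Subgroup.coe_one, map_one]
    have h2 : orderOf (⟨_, MonoidHom.mem_ker.mpr hψ1⟩ : ψ.ker) ∣ Nat.card ψ.ker := orderOf_dvd_natCard _
    rw [hkk, Subgroup.orderOf_mk, ← Subgroup.orderOf_coe, SubmonoidClass.coe_pow, ← Subgroup.orderOf_coe, hlm, hjo'] at h2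
    exact Nat.not_even_iff_odd.2 hoddk (even_iff_two_dvd.2 h2)
  · -- a perfect subgroup generated by such centralisers
    have hL : ∀ l : P.A, P.q l ∈ Hm → (l : G) ∈ P.Nc g' := by
      let Q : Subgroup M := (((P.Nc g').subgroupOf P.A)).map P.q
      have hQ : Hm ≤ Q := hHle.trans ((Subgroup.closure_le _).mpr (by
        rintro c ⟨j, hjJ, hjord, hc⟩
        obtain ⟨y, hy, rfl⟩ := hjJ
        obtain ⟨y', hy', hyq, hyo⟩ := P.exists_invol_in (L := P.Kc g') hjord ⟨y, hy, rfl⟩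
        obtain ⟨l, rfl⟩ := P.surj c
        obtain ⟨k0, hk0, hk0y⟩ := hy'
        refine ⟨l, P.mem_Nc.mpr (P.cent_le_conj hk0 ?_ (?_ : (l : G) * (g' * k0 * g'⁻¹) = g' * k0 * g'⁻¹ * l)), rfl⟩
        · rw [← hyo, ← hk0y]; exact ((MulAut.conj g').orderOf_eq k0).symm
        · rw [show g' * k0 * g'⁻¹ = (y' : G) from hk0y]; exact P.cent_lift hyo (by rw [hyq]; exact hc)))
      intro l hl
      obtain ⟨v, hv, hvl⟩ := hQ hl
      have hc : v⁻¹ * l ∈ Subgroup.center P.A := (P.ker _).mp (by rw [map_mul, map_inv, hvl, inv_mul_cancel])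
      have hcN' : ((v⁻¹ * l : P.A) : G) ∈ P.Nc g' := hcN _ (P.K_comm (P.center_le_K hc) hj').symm
      have := (P.Nc g').mul_mem hv hcN'
      simpa using this
    obtain ⟨L, ψ, -, -, -, -, hdvd⟩ := P.image_le_fix F (g := g') (Hm := Hm) (J := J) hHm hL hJm hx hxN τ rfl
    exact hbig τ hτ2 hτ1 (hdvd.trans (Subgroup.card_subgroup_dvd_card _))

end Comp

end Cfsg.Lib.StdOne
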